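import Mathlib

set_option linter.style.haveILetI false
set_option linter.unusedVariables false
set_option linter.unusedSectionVars false
set_option autoImplicit false
set_option backward.isDefEq.respectTransparency.types false
set_option synthInstance.maxHeartbeats 400000
set_option maxHeartbeats 1600000

namespace Groth.Agent.Helper7.PDeg

open CategoryTheory CategoryTheory.Limits AlgebraicGeometry TopologicalSpace Opposite
open AlgebraicGeometry.AffineSpace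

universe u

/-! helper7: helper7: sections of the affine line over an affine open are generated by the base sections and the coordinate -/

section Gen

variable {n : Type u}

/-- restriction of a coordinate to an open -/
noncomputable def coordOn (X : Scheme.{u}) (i : n) (U : 𝔸(n; X).Opens) : Γ(𝔸(n; X), U) :=
  (𝔸(n; X).presheaf.map (homOfLE (le_top : U ≤ ⊤)).op).hom (AffineSpace.coord X i)

theorem closure_top_of_isAffine (S : Scheme.{u}) [IsAffine S] :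
    Subring.closure (Set.range ((𝔸(n; S) ↘ S).appTop).hom ∪
      Set.range (AffineSpace.coord (n := n) S)) = ⊤ := by
  rw [eq_top_iff]
  intro s _
  haveI : IsIso (isoOfIsAffine n S).hom := inferInstance
  haveI : IsIso ((isoOfIsAffine n S).hom.appTop) :=
    inferInstanceAs (IsIso ((isoOfIsAffine n S).hom.app ⊤))
  have hiso : Function.Surjective ((isoOfIsAffine n S).hom.appTop).hom :=
    (ConcreteCategory.bijective_of_isIso ((isoOfIsAffine n S).hom.appTop)).2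
  obtain ⟨s', rfl⟩ := hiso s
  rw [isoOfIsAffine_hom_appTop]
  simp only [CommRingCat.hom_comp, CommRingCat.hom_ofHom, RingHom.comp_apply]
  generalize (Scheme.ΓSpecIso _).hom.hom s' = P
  induction P using MvPolynomial.induction_on with
  | C a =>
    rw [MvPolynomial.coe_eval₂Hom, MvPolynomial.eval₂_C]
    exact Subring.subset_closure (Or.inl ⟨a, rfl⟩)
  | add p q hp hq =>
    rw [map_add]
    exact Subring.add_mem _ hp hq
  | mul_X p i hp =>
    rw [map_mul]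
    refine Subring.mul_mem _ hp ?_
    rw [MvPolynomial.coe_eval₂Hom, MvPolynomial.eval₂_X]
    exact Subring.subset_closure (Or.inr ⟨i, rfl⟩)

instance isOpenImmersion_map {S T : Scheme.{u}} (f : S ⟶ T) [IsOpenImmersion f] :
    IsOpenImmersion (AffineSpace.map n f) :=
  MorphismProperty.of_isPullback (P := @IsOpenImmersion) (isPullback_map (n := n) f).flip
    (inferInstance : IsOpenImmersion f)

theorem appLE_top_top {A B : Scheme.{u}} (f : A ⟶ B) (e : (⊤ : A.Opens) ≤ f ⁻¹ᵁ ⊤) :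
    f.appLE ⊤ ⊤ e = f.appTop := by
  show f.appLE ⊤ (f ⁻¹ᵁ ⊤) le_rfl = _
  exact Scheme.Hom.appLE_eq_app f

theorem appLE_congr_hom {A B : Scheme.{u}} (f g : A ⟶ B) (h : f = g) (U : B.Opens)
    (V : A.Opens) (e : V ≤ f ⁻¹ᵁ U) (e' : V ≤ g ⁻¹ᵁ U) : f.appLE U V e = g.appLE U V e' := by
  subst h
  rfl

theorem preimage_le_opensRange_map (X : Scheme.{u}) (W : X.Opens) :
    (𝔸(n; X) ↘ X) ⁻¹ᵁ W ≤ (AffineSpace.map n W.ι).opensRange := by
  intro p hp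
  have hp' : (𝔸(n; X) ↘ X) p ∈ W := hp
  obtain ⟨z, hz1, hz2⟩ := Scheme.Pullback.exists_preimage_pullback
    (f := 𝔸(n; X) ↘ X) (g := W.ι) p ⟨_, hp'⟩ rfl
  have hpb := isPullback_map (n := n) W.ι
  refine ⟨hpb.isoPullback.inv z, ?_⟩
  rw [← Scheme.Hom.comp_apply, hpb.isoPullback_inv_fst]
  exact hz1

theorem top_le_preimage_map (X : Scheme.{u}) (W : X.Opens) :
    (⊤ : 𝔸(n; W).Opens) ≤ (AffineSpace.map n W.ι) ⁻¹ᵁ ((𝔸(n; X) ↘ X) ⁻¹ᵁ W) := by
  intro y _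
  show (𝔸(n; X) ↘ X) ((AffineSpace.map n W.ι) y) ∈ W
  rw [← Scheme.Hom.comp_apply, map_over, Scheme.Hom.comp_apply]
  exact ((𝔸(n; W) ↘ W) y).2

theorem closure_preimage (X : Scheme.{u}) {W : X.Opens} (hW : IsAffineOpen W) :
    Subring.closure (Set.range ((𝔸(n; X) ↘ X).app W).hom ∪
      Set.range (fun i : n => coordOn X i ((𝔸(n; X) ↘ X) ⁻¹ᵁ W))) = ⊤ := by
  haveI : IsAffine W := hW
  have hle := top_le_preimage_map (n := n) X W
  let Φ : Γ(𝔸(n; X), (𝔸(n; X) ↘ X) ⁻¹ᵁ W) →+* Γ(𝔸(n; W), ⊤) :=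
    ((AffineSpace.map n W.ι).appLE ((𝔸(n; X) ↘ X) ⁻¹ᵁ W) ⊤ hle).hom
  have hΦinj : Function.Injective Φ := by
    haveI := Scheme.Hom.isIso_app (AffineSpace.map n W.ι) ((𝔸(n; X) ↘ X) ⁻¹ᵁ W)
      (preimage_le_opensRange_map X W)
    have h1 : Function.Injective ((AffineSpace.map n W.ι).app ((𝔸(n; X) ↘ X) ⁻¹ᵁ W)).hom :=
      (ConcreteCategory.bijective_of_isIso _).1
    intro a b hab
    apply h1
    have h2 : ∀ c, (𝔸(n; W).presheaf.map (homOfLE (le_top :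
        (AffineSpace.map n W.ι) ⁻¹ᵁ ((𝔸(n; X) ↘ X) ⁻¹ᵁ W) ≤ ⊤)).op).hom (Φ c) =
        ((AffineSpace.map n W.ι).app ((𝔸(n; X) ↘ X) ⁻¹ᵁ W)).hom c := by
      intro c
      show ((AffineSpace.map n W.ι).appLE _ _ hle ≫ 𝔸(n; W).presheaf.map _).hom c = _
      rw [Scheme.Hom.appLE_map, Scheme.Hom.appLE_eq_app]
    rw [← h2 a, ← h2 b, hab]
  have hΦ1 : ∀ r' : Γ(W, ⊤), ∃ r : Γ(X, W),
      Φ (((𝔸(n; X) ↘ X).app W).hom r) = ((𝔸(n; W) ↘ W).appTop).hom r' := by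
    intro r'
    have hW' : (⊤ : W.toScheme.Opens) ≤ W.ι ⁻¹ᵁ W := by intro y _; exact y.2
    have hι : W.ι.appLE W ⊤ hW' = W.topIso.inv := by
      rw [Scheme.Opens.ι_appLE]
      exact congrArg (fun m => X.presheaf.map m) (Subsingleton.elim _ _)
    have hsurj : ∃ r : Γ(X, W), (W.ι.appLE W ⊤ hW').hom r = r' := by
      refine ⟨W.topIso.hom.hom r', ?_⟩
      rw [hι, ← RingHom.comp_apply, ← CommRingCat.hom_comp, Iso.hom_inv_id]
      rfl
    obtain ⟨r, hr⟩ := hsurj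
    refine ⟨r, ?_⟩
    have htop : (⊤ : 𝔸(n; W).Opens) ≤ (𝔸(n; W) ↘ W) ⁻¹ᵁ ⊤ := by intro _ _; trivial
    have hle2 : (⊤ : 𝔸(n; W).Opens) ≤ ((𝔸(n; W) ↘ W) ≫ W.ι) ⁻¹ᵁ W := by
      intro y _
      exact ((𝔸(n; W) ↘ W) y).2
    have e1 : (𝔸(n; X) ↘ X).app W ≫ (AffineSpace.map n W.ι).appLE _ ⊤ hle =
        (AffineSpace.map n W.ι ≫ 𝔸(n; X) ↘ X).appLE W ⊤ hle := by
      rw [Scheme.Hom.app_eq_appLE, Scheme.Hom.appLE_comp_appLE]
    have e2 : W.ι.appLE W ⊤ hW' ≫ (𝔸(n; W) ↘ W).appLE ⊤ ⊤ htop =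
        ((𝔸(n; W) ↘ W) ≫ W.ι).appLE W ⊤ hle2 :=
      Scheme.Hom.appLE_comp_appLE _ _ _ _ _ _ _
    have e3 : (AffineSpace.map n W.ι ≫ 𝔸(n; X) ↘ X).appLE W ⊤ hle =
        ((𝔸(n; W) ↘ W) ≫ W.ι).appLE W ⊤ hle2 :=
      appLE_congr_hom _ _ (map_over W.ι) _ _ _ _
    calc Φ (((𝔸(n; X) ↘ X).app W).hom r)
        = ((𝔸(n; X) ↘ X).app W ≫ (AffineSpace.map n W.ι).appLE _ ⊤ hle).hom r := rfl
      _ = (W.ι.appLE W ⊤ hW' ≫ (𝔸(n; W) ↘ W).appLE ⊤ ⊤ htop).hom r := by rw [e1, e3, ← e2]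
      _ = ((𝔸(n; W) ↘ W).appLE ⊤ ⊤ htop).hom ((W.ι.appLE W ⊤ hW').hom r) := rfl
      _ = ((𝔸(n; W) ↘ W).appTop).hom r' := by rw [hr, appLE_top_top]
  have hΦ2 : ∀ i : n, Φ (coordOn X i ((𝔸(n; X) ↘ X) ⁻¹ᵁ W)) = AffineSpace.coord W i := by
    intro i
    show ((𝔸(n; X).presheaf.map (homOfLE le_top).op) ≫
      (AffineSpace.map n W.ι).appLE _ ⊤ hle).hom (AffineSpace.coord X i) = _
    rw [Scheme.Hom.map_appLE, appLE_top_top]
    exact map_appTop_coord W.ι i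
  rw [eq_top_iff]
  intro s _
  have hs : Φ s ∈ Subring.closure (Set.range ((𝔸(n; W) ↘ W).appTop).hom ∪
      Set.range (AffineSpace.coord (n := n) W)) := by
    rw [closure_top_of_isAffine]
    exact Subring.mem_top _
  have key : ∀ y ∈ Subring.closure (Set.range ((𝔸(n; W) ↘ W).appTop).hom ∪
      Set.range (AffineSpace.coord (n := n) W)),
      ∃ s₀ ∈ Subring.closure (Set.range ((𝔸(n; X) ↘ X).app W).hom ∪
        Set.range (fun i : n => coordOn X i ((𝔸(n; X) ↘ X) ⁻¹ᵁ W))), Φ s₀ = y := by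
    intro y hy
    induction hy using Subring.closure_induction with
    | mem y hy =>
      rcases hy with ⟨r', rfl⟩ | ⟨i, rfl⟩
      · obtain ⟨r, hr⟩ := hΦ1 r'
        exact ⟨_, Subring.subset_closure (Or.inl ⟨r, rfl⟩), hr⟩
      · exact ⟨_, Subring.subset_closure (Or.inr ⟨i, rfl⟩), hΦ2 i⟩
    | zero => exact ⟨0, Subring.zero_mem _, map_zero _⟩
    | one => exact ⟨1, Subring.one_mem _, map_one _⟩
    | add a b _ _ ha hb =>
      obtain ⟨a₀, ha₀, rfl⟩ := ha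
      obtain ⟨b₀, hb₀, rfl⟩ := hb
      exact ⟨a₀ + b₀, Subring.add_mem _ ha₀ hb₀, map_add _ _ _⟩
    | neg a _ ha =>
      obtain ⟨a₀, ha₀, rfl⟩ := ha
      exact ⟨-a₀, Subring.neg_mem _ ha₀, map_neg _ _⟩
    | mul a b _ _ ha hb =>
      obtain ⟨a₀, ha₀, rfl⟩ := ha
      obtain ⟨b₀, hb₀, rfl⟩ := hb
      exact ⟨a₀ * b₀, Subring.mul_mem _ ha₀ hb₀, map_mul _ _ _⟩
  obtain ⟨s₀, hs₀, hs₀s⟩ := key _ hs
  rw [← hΦinj hs₀s]
  exact hs₀

end Gen

end Groth.Agent.Helper7.PDeg
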