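import Mathlib
import Groth.Agent.Lib.Helper7.PDeg.Aff

set_option linter.style.haveILetI false
set_option linter.unusedVariables false
set_option linter.unusedSectionVars false
set_option autoImplicit false
set_option backward.isDefEq.respectTransparency.types false
set_option synthInstance.maxHeartbeats 400000
set_option maxHeartbeats 1600000

namespace Groth.Agent.Helper7.PDeg

open CategoryTheory CategoryTheory.Limits AlgebraicGeometry TopologicalSpace Opposite IsLocalRing
open AlgebraicGeometry.AffineSpace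

universe u

/-! helper7: helper7: the closure of the graph of a rational function in the affine line over an integral scheme, its charts and their embedding in the function field -/

section Graph

variable {X : Scheme.{u}} [IsIntegral X]

noncomputable instance uniqueSpecFF : Unique (Spec X.functionField) :=
  inferInstanceAs (Unique (PrimeSpectrum X.functionField))

/-- the point of the spectrum of the function field -/
noncomputable def ptT (X : Scheme.{u}) [IsIntegral X] : Spec X.functionField := default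

theorem fromSpecStalk_ptT :
    (X.fromSpecStalk (genericPoint X)) (ptT X) = genericPoint X := by
  have h := Scheme.fromSpecStalk_closedPoint (X := X) (x := genericPoint X)
  have h2 : (closedPoint (X.presheaf.stalk (genericPoint X)) : Spec X.functionField) = ptT X :=
    Subsingleton.elim _ _
  rw [← h2]
  exact h

theorem genericPoint_mem (W : X.Opens) [h : Nonempty W] : genericPoint X ∈ W :=
  ((genericPoint_spec X).mem_open_set_iff W.isOpen).mpr (by simpa using h)

/-- the graph of a rational function, on the spectrum of the function field -/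
noncomputable def graph (g : X.functionField) : Spec X.functionField ⟶ 𝔸(PUnit.{u+1}; X) :=
  homOfVector (X.fromSpecStalk (genericPoint X))
    (fun _ => (Scheme.ΓSpecIso X.functionField).inv.hom g)

instance quasiCompact_graph (g : X.functionField) : QuasiCompact (graph g) :=
  ⟨fun U _ _ => (Set.toFinite _).isCompact⟩

/-- the closure of the graph -/
noncomputable abbrev ZZ (g : X.functionField) : Scheme.{u} := (graph g).image

/-- the closed immersion of the closure of the graph -/
noncomputable abbrev iZ (g : X.functionField) : ZZ g ⟶ 𝔸(PUnit.{u+1}; X) := (graph g).imageι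

/-- the map from the spectrum of the function field -/
noncomputable abbrev tZ (g : X.functionField) : Spec X.functionField ⟶ ZZ g := (graph g).toImage

/-- the projection to `X` -/
noncomputable def piZ (g : X.functionField) : ZZ g ⟶ X := iZ g ≫ 𝔸(PUnit.{u+1}; X) ↘ X

/-- the coordinate function -/
noncomputable def uZ (g : X.functionField) : Γ(ZZ g, ⊤) :=
  (iZ g).appTop.hom (AffineSpace.coord X PUnit.unit)

theorem tZ_piZ (g : X.functionField) : tZ g ≫ piZ g = X.fromSpecStalk (genericPoint X) := by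
  unfold piZ
  rw [Scheme.Hom.toImage_imageι_assoc, graph, homOfVector_over]

theorem isReduced_quot_of_eq_ker {A B : Type u} [CommRing A] [CommRing B] [_root_.IsReduced B]
    (I : Ideal A) (f : A →+* B) (h : I = RingHom.ker f) : _root_.IsReduced (A ⧸ I) := by
  subst h
  exact isReduced_of_injective (RingHom.kerLift f) (RingHom.kerLift_injective f)

instance isReduced_ZZ (g : X.functionField) : IsReduced (ZZ g) := by
  haveI : ∀ i, IsReduced (((graph g).ker.subschemeCover.openCover).X i) := by
    intro U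
    haveI : _root_.IsReduced (Γ(𝔸(PUnit.{u+1}; X), U.1) ⧸ (graph g).ker.ideal U) :=
      isReduced_quot_of_eq_ker _ ((graph g).app U.1).hom (Scheme.Hom.ker_apply (graph g) U)
    show IsReduced (Spec (CommRingCat.of (Γ(𝔸(PUnit.{u+1}; X), U.1) ⧸ (graph g).ker.ideal U)))
    infer_instance
  exact IsReduced.of_openCover (ZZ g) ((graph g).ker.subschemeCover.openCover)

theorem range_tZ (g : X.functionField) : Set.range (tZ g) = {tZ g (ptT X)} := by
  ext z
  constructor
  · rintro ⟨t, rfl⟩
    rw [Subsingleton.elim t (ptT X)]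
    rfl
  · rintro rfl
    exact ⟨_, rfl⟩

theorem closure_tZ_ptT (g : X.functionField) :
    closure ({tZ g (ptT X)} : Set (ZZ g)) = Set.univ := by
  rw [← range_tZ]
  exact (tZ g).denseRange.closure_range

instance irreducibleSpace_ZZ (g : X.functionField) : IrreducibleSpace (ZZ g) where
  isPreirreducible_univ := by
    rw [← closure_tZ_ptT g]
    exact isIrreducible_singleton.closure.isPreirreducible
  toNonempty := ⟨tZ g (ptT X)⟩

instance isIntegral_ZZ (g : X.functionField) : IsIntegral (ZZ g) :=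
  isIntegral_of_irreducibleSpace_of_isReduced _

theorem tZ_ptT (g : X.functionField) : tZ g (ptT X) = genericPoint (ZZ g) := by
  have h1 : IsGenericPoint (tZ g (ptT X)) (Set.univ : Set (ZZ g)) := closure_tZ_ptT g
  exact h1.eq (genericPoint_spec (ZZ g))

instance isLocallyNoetherian_ZZ [IsLocallyNoetherian X] (g : X.functionField) :
    IsLocallyNoetherian (ZZ g) :=
  haveI : IsLocallyNoetherian 𝔸(PUnit.{u+1}; X) :=
    LocallyOfFiniteType.isLocallyNoetherian (𝔸(PUnit.{u+1}; X) ↘ X)
  LocallyOfFiniteType.isLocallyNoetherian (iZ g)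

/-- the preimage in the closure of the graph of an open of `X` -/
noncomputable abbrev VZ (g : X.functionField) (W : X.Opens) : (ZZ g).Opens :=
  (piZ g) ⁻¹ᵁ W

theorem mem_VZ (g : X.functionField) (W : X.Opens) (z : ZZ g) : z ∈ VZ g W ↔ piZ g z ∈ W :=
  Iff.rfl

theorem isAffineOpen_VZ (g : X.functionField) {W : X.Opens} (hW : IsAffineOpen W) :
    IsAffineOpen (VZ g W) := by
  show IsAffineOpen ((iZ g) ⁻¹ᵁ ((𝔸(PUnit.{u+1}; X) ↘ X) ⁻¹ᵁ W))
  exact (hW.preimage (𝔸(PUnit.{u+1}; X) ↘ X)).preimage (iZ g)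

theorem top_le_tZ_preimage (g : X.functionField) (W : X.Opens) [Nonempty W] :
    (⊤ : (Spec X.functionField).Opens) ≤ (tZ g) ⁻¹ᵁ (VZ g W) := by
  intro t _
  show piZ g (tZ g t) ∈ W
  rw [← Scheme.Hom.comp_apply, tZ_piZ, Subsingleton.elim t (ptT X), fromSpecStalk_ptT]
  exact genericPoint_mem W

/-- the embedding of the sections over a chart into the function field of `X` -/
noncomputable def epsZ (g : X.functionField) (W : X.Opens) [Nonempty W] :
    Γ(ZZ g, VZ g W) →+* X.functionField :=
  (Scheme.ΓSpecIso X.functionField).hom.hom.comp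
    ((tZ g).appLE (VZ g W) ⊤ (top_le_tZ_preimage g W)).hom

theorem epsZ_injective (g : X.functionField) {W : X.Opens} (hW : IsAffineOpen W) [Nonempty W] :
    Function.Injective (epsZ g W) := by
  have h1 : Function.Injective ((tZ g).app (VZ g W)).hom :=
    (graph g).toImage_app_injective ⟨_, hW.preimage (𝔸(PUnit.{u+1}; X) ↘ X)⟩
  have h2 : Function.Injective
      ((tZ g).appLE (VZ g W) ⊤ (top_le_tZ_preimage g W)).hom := by
    intro a b hab
    apply h1
    have h3 : ∀ c, ((Spec X.functionField).presheaf.map (homOfLE (le_top :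
        (tZ g) ⁻¹ᵁ (VZ g W) ≤ ⊤)).op).hom
        (((tZ g).appLE (VZ g W) ⊤ (top_le_tZ_preimage g W)).hom c) =
        ((tZ g).app (VZ g W)).hom c := by
      intro c
      show ((tZ g).appLE _ _ _ ≫ (Spec X.functionField).presheaf.map _).hom c = _
      rw [Scheme.Hom.appLE_map, Scheme.Hom.appLE_eq_app]
    rw [← h3 a, ← h3 b, hab]
  exact (ConcreteCategory.bijective_of_isIso (Scheme.ΓSpecIso X.functionField).hom).1.comp h2

theorem epsZ_piZ_app (g : X.functionField) (W : X.Opens) [Nonempty W] (r : Γ(X, W)) :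
    epsZ g W (((piZ g).app W).hom r) = algebraMap Γ(X, W) X.functionField r := by
  have e1 : (piZ g).app W ≫ (tZ g).appLE (VZ g W) ⊤ (top_le_tZ_preimage g W) =
      (tZ g ≫ piZ g).appLE W ⊤ (top_le_tZ_preimage g W) := by
    rw [Scheme.Hom.app_eq_appLE, Scheme.Hom.appLE_comp_appLE]
  have hη : genericPoint X ∈ W := genericPoint_mem W
  have hle : (⊤ : (Spec X.functionField).Opens) ≤ (X.fromSpecStalk (genericPoint X)) ⁻¹ᵁ W := by
    intro t _
    show (X.fromSpecStalk (genericPoint X)) t ∈ W
    rw [Subsingleton.elim t (ptT X), fromSpecStalk_ptT]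
    exact hη
  have e2 : (tZ g ≫ piZ g).appLE W ⊤ (top_le_tZ_preimage g W) =
      (X.fromSpecStalk (genericPoint X)).appLE W ⊤ hle :=
    appLE_congr_hom _ _ (tZ_piZ g) _ _ _ _
  have e3 : (X.fromSpecStalk (genericPoint X)).appLE W ⊤ hle =
      X.presheaf.germ W (genericPoint X) hη ≫ (Scheme.ΓSpecIso X.functionField).inv := by
    rw [Scheme.Hom.appLE, Scheme.fromSpecStalk_app hη, Category.assoc, Category.assoc,
      ← Functor.map_comp]
    have h0 : ((homOfLE (le_top : (X.fromSpecStalk (genericPoint X)) ⁻¹ᵁ W ≤ ⊤)).op ≫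
        (homOfLE hle).op) = 𝟙 _ := Subsingleton.elim _ _
    rw [h0, CategoryTheory.Functor.map_id, Category.comp_id]
  calc epsZ g W (((piZ g).app W).hom r)
      = (Scheme.ΓSpecIso X.functionField).hom.hom
          (((piZ g).app W ≫ (tZ g).appLE (VZ g W) ⊤ (top_le_tZ_preimage g W)).hom r) := rfl
    _ = (Scheme.ΓSpecIso X.functionField).hom.hom
          ((X.presheaf.germ W (genericPoint X) hη ≫
            (Scheme.ΓSpecIso X.functionField).inv).hom r) := by rw [e1, e2, e3]
    _ = (X.presheaf.germ W (genericPoint X) hη ≫ (Scheme.ΓSpecIso X.functionField).inv ≫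
          (Scheme.ΓSpecIso X.functionField).hom).hom r := rfl
    _ = algebraMap Γ(X, W) X.functionField r := by
      rw [Iso.inv_hom_id, Category.comp_id]
      rfl

/-- the coordinate function on an open -/
noncomputable def uOn (g : X.functionField) (V : (ZZ g).Opens) : Γ(ZZ g, V) :=
  ((ZZ g).presheaf.map (homOfLE (le_top : V ≤ ⊤)).op).hom (uZ g)

theorem epsZ_uOn (g : X.functionField) (W : X.Opens) [Nonempty W] :
    epsZ g W (uOn g (VZ g W)) = g := by
  have h1 : (tZ g).appTop.hom (uZ g) =
      (graph g).appTop.hom (AffineSpace.coord X PUnit.unit) := by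
    unfold uZ
    rw [← RingHom.comp_apply, ← CommRingCat.hom_comp, ← Scheme.Hom.comp_appTop,
      Scheme.Hom.toImage_imageι]
  show (Scheme.ΓSpecIso X.functionField).hom.hom
    (((ZZ g).presheaf.map (homOfLE (le_top : VZ g W ≤ ⊤)).op ≫
      (tZ g).appLE (VZ g W) ⊤ (top_le_tZ_preimage g W)).hom (uZ g)) = g
  rw [Scheme.Hom.map_appLE, appLE_top_top, h1, graph, homOfVector_appTop_coord,
    ← RingHom.comp_apply, ← CommRingCat.hom_comp, Iso.inv_hom_id]
  rfl

theorem exists_poly_of_closure {R S B : Type u} [CommRing R] [CommRing S] [CommRing B]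
    (ρ : R →+* S) (c : S) (hcl : Subring.closure (Set.range ρ ∪ {c}) = ⊤) (ψ : S →+* B)
    (hψ : Function.Surjective ψ) (b : B) :
    ∃ P : Polynomial R, b = Polynomial.eval₂ (ψ.comp ρ) (ψ c) P := by
  obtain ⟨s, rfl⟩ := hψ b
  have hs : s ∈ Subring.closure (Set.range ρ ∪ {c}) := by
    rw [hcl]
    exact Subring.mem_top s
  induction hs using Subring.closure_induction with
  | mem y hy =>
    rcases hy with ⟨r, rfl⟩ | hy
    · exact ⟨Polynomial.C r, by rw [Polynomial.eval₂_C]; rfl⟩
    · rw [Set.mem_singleton_iff] at hy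
      subst hy
      exact ⟨Polynomial.X, by rw [Polynomial.eval₂_X]⟩
  | zero => exact ⟨0, by simp⟩
  | one => exact ⟨1, by simp⟩
  | add a b _ _ ha hb =>
    obtain ⟨P, hP⟩ := ha
    obtain ⟨Q, hQ⟩ := hb
    exact ⟨P + Q, by rw [map_add, Polynomial.eval₂_add, hP, hQ]⟩
  | neg a _ ha =>
    obtain ⟨P, hP⟩ := ha
    exact ⟨-P, by rw [map_neg, Polynomial.eval₂_neg, hP]⟩
  | mul a b _ _ ha hb =>
    obtain ⟨P, hP⟩ := ha
    obtain ⟨Q, hQ⟩ := hb
    exact ⟨P * Q, by rw [map_mul, Polynomial.eval₂_mul, hP, hQ]⟩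

theorem iZ_app_coordOn (g : X.functionField) (W : X.Opens) :
    ((iZ g).app ((𝔸(PUnit.{u+1}; X) ↘ X) ⁻¹ᵁ W)).hom
      (coordOn X PUnit.unit ((𝔸(PUnit.{u+1}; X) ↘ X) ⁻¹ᵁ W)) = uOn g (VZ g W) := by
  unfold coordOn uOn uZ
  rw [← RingHom.comp_apply, ← CommRingCat.hom_comp, Scheme.Hom.naturality]
  rfl

theorem gen_ZZ (g : X.functionField) {W : X.Opens} (hW : IsAffineOpen W)
    (b : Γ(ZZ g, VZ g W)) :
    ∃ P : Polynomial Γ(X, W),
      b = Polynomial.eval₂ ((piZ g).app W).hom (uOn g (VZ g W)) P := by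
  have hcl := closure_preimage (n := PUnit.{u+1}) X hW
  have hr : Set.range (fun i : PUnit.{u+1} =>
      coordOn X i ((𝔸(PUnit.{u+1}; X) ↘ X) ⁻¹ᵁ W)) =
      {coordOn X PUnit.unit ((𝔸(PUnit.{u+1}; X) ↘ X) ⁻¹ᵁ W)} := by
    ext y
    constructor
    · rintro ⟨i, rfl⟩
      rfl
    · rintro rfl
      exact ⟨PUnit.unit, rfl⟩
  rw [hr] at hcl
  have hsurj : Function.Surjective ((iZ g).app ((𝔸(PUnit.{u+1}; X) ↘ X) ⁻¹ᵁ W)).hom :=
    (graph g).ker.subschemeι_app_surjective ⟨_, hW.preimage (𝔸(PUnit.{u+1}; X) ↘ X)⟩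
  obtain ⟨P, hP⟩ := exists_poly_of_closure _ _ hcl
    ((iZ g).app ((𝔸(PUnit.{u+1}; X) ↘ X) ⁻¹ᵁ W)).hom hsurj b
  refine ⟨P, ?_⟩
  rw [hP, iZ_app_coordOn]
  rfl

end Graph

end Groth.Agent.Helper7.PDeg
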