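import Mathlib
import Groth.Prelude.Def_Tame
import Groth.Agent.Lib.Helper6.LatDist.LDb

set_option linter.style.haveILetI false
set_option linter.unusedVariables false
set_option linter.unusedSectionVars false
set_option autoImplicit false
set_option backward.isDefEq.respectTransparency.types false
set_option synthInstance.maxHeartbeats 400000
set_option maxHeartbeats 1600000

namespace Groth.Agent.Helper7.PDeg

open Groth.Agent.Lib.Helper6.LatDist

universe u

/-! helper7: helper7: order of a fraction as difference of colengths of A ∩ gA[g] and A ∩ g⁻¹A[g⁻¹] (lattice distance) -/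

section Colon

variable {A : Type u} [CommRing A] {V : Type u} [AddCommGroup V] [Module A V]

/-- the ideal of scalars moving `v` into `N` -/
def colonI (N : Submodule A V) (v : V) : Ideal A := N.comap (LinearMap.toSpanSingleton A V v)

theorem mem_colonI (N : Submodule A V) (v : V) (a : A) : a ∈ colonI N v ↔ a • v ∈ N := by
  unfold colonI
  rw [Submodule.mem_comap, LinearMap.toSpanSingleton_apply]

theorem length_quot_congr {I J : Ideal A} (h : I = J) :
    Module.length A (A ⧸ I) = Module.length A (A ⧸ J) := by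
  subst h
  rfl

theorem rl_eq_length_colonI (N P : Submodule A V) (v : V) (hv : v ∈ P)
    (hgen : P ≤ N ⊔ Submodule.span A {v}) :
    rl N P = Module.length A (A ⧸ colonI N v) := by
  unfold rl
  let f : A →ₗ[A] (↥P ⧸ N.submoduleOf P) :=
    (N.submoduleOf P).mkQ ∘ₗ (LinearMap.toSpanSingleton A ↥P ⟨v, hv⟩)
  have hfa : ∀ a : A, f a = Submodule.Quotient.mk (a • (⟨v, hv⟩ : ↥P)) := fun a => rfl
  have hf : Function.Surjective f := by
    intro y
    obtain ⟨p, rfl⟩ := Submodule.Quotient.mk_surjective _ y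
    obtain ⟨n, hn, w, hw, hnw⟩ := Submodule.mem_sup.mp (hgen p.2)
    obtain ⟨a, rfl⟩ := Submodule.mem_span_singleton.mp hw
    refine ⟨a, ?_⟩
    rw [hfa, Submodule.Quotient.eq]
    show ((a • (⟨v, hv⟩ : ↥P) - p : ↥P) : V) ∈ N
    have h1 : ((a • (⟨v, hv⟩ : ↥P) - p : ↥P) : V) = - n := by
      show a • v - (p : V) = - n
      rw [← hnw]
      abel
    rw [h1]
    exact N.neg_mem hn
  have hker : LinearMap.ker f = colonI N v := by
    ext a
    rw [LinearMap.mem_ker, hfa, Submodule.Quotient.mk_eq_zero, mem_colonI]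
    rfl
  exact ((Submodule.quotEquivOfEq _ _ hker).symm.trans
    (f.quotKerEquivOfSurjective hf)).length_eq.symm

end Colon

section Main

variable {A : Type u} [CommRing A] {L : Type u} [Field L] [Algebra A L]

/-- the lattice spanned by `1, g, …, g ^ n` -/
def Mn (A : Type u) [CommRing A] {L : Type u} [Field L] [Algebra A L] (g : L) (n : ℕ) :
    Submodule A L :=
  Submodule.span A (Set.range fun i : Fin (n + 1) => g ^ (i : ℕ))

theorem mem_Mn (g : L) (n : ℕ) (x : L) :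
    x ∈ Mn A g n ↔ ∃ c : Fin (n + 1) → A, ∑ i, c i • g ^ (i : ℕ) = x := by
  unfold Mn
  exact Submodule.mem_span_range_iff_exists_fun A

theorem pow_mem_Mn (g : L) (n : ℕ) (i : ℕ) (hi : i ≤ n) : g ^ i ∈ Mn A g n :=
  Submodule.subset_span ⟨⟨i, Nat.lt_succ_of_le hi⟩, rfl⟩

/-- the ideal of elements of `A` lying in `g A[g]` -/
def I0 (A : Type u) [CommRing A] {L : Type u} [Field L] [Algebra A L] (g : L) : Ideal A where
  carrier := {a | ∃ P : Polynomial A, algebraMap A L a = g * Polynomial.aeval g P}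
  zero_mem' := ⟨0, by simp⟩
  add_mem' := by
    rintro a b ⟨P, hP⟩ ⟨Q, hQ⟩
    exact ⟨P + Q, by rw [map_add, map_add, mul_add, hP, hQ]⟩
  smul_mem' := by
    rintro c a ⟨P, hP⟩
    refine ⟨Polynomial.C c * P, ?_⟩
    rw [smul_eq_mul, map_mul, map_mul, Polynomial.aeval_C, hP]
    ring

theorem mem_I0 (g : L) (a : A) :
    a ∈ I0 A g ↔ ∃ P : Polynomial A, algebraMap A L a = g * Polynomial.aeval g P := Iff.rfl

/-- multiplication by `g` as an `A`-linear map -/
noncomputable def mulg (A : Type u) [CommRing A] {L : Type u} [Field L] [Algebra A L] (g : L)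
    (hg : g ≠ 0) : L →ₗ[A] L :=
  (LinearEquiv.smulOfNeZero L L g hg).toLinearMap.restrictScalars A

theorem mulg_apply (g : L) (hg : g ≠ 0) (x : L) : mulg A g hg x = g * x := rfl

theorem mem_colon_gM (g : L) (hg : g ≠ 0) (n : ℕ) (a : A) :
    a ∈ colonI ((Mn A g n).map (mulg A g hg)) (1 : L) ↔
      ∃ c : Fin (n + 1) → A, algebraMap A L a = g * ∑ i, c i • g ^ (i : ℕ) := by
  rw [mem_colonI, Submodule.mem_map]
  constructor
  · rintro ⟨x, hx, hxa⟩
    obtain ⟨c, rfl⟩ := (mem_Mn g n x).mp hx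
    refine ⟨c, ?_⟩
    rw [Algebra.algebraMap_eq_smul_one, ← hxa, mulg_apply]
  · rintro ⟨c, hc⟩
    refine ⟨∑ i, c i • g ^ (i : ℕ), (mem_Mn g n _).mpr ⟨c, rfl⟩, ?_⟩
    rw [← Algebra.algebraMap_eq_smul_one, hc, mulg_apply]

theorem sum_rev_identity (g : L) (hg : g ≠ 0) (n : ℕ) (c : Fin (n + 1) → A) :
    ∑ i, c i • g ^ (i : ℕ) =
      g ^ (n + 1) * (g⁻¹ * ∑ j, c (Fin.rev j) • (g⁻¹) ^ (j : ℕ)) := by
  rw [← Equiv.sum_comp Fin.revPerm (fun i => c i • g ^ (i : ℕ))]
  rw [Finset.mul_sum, Finset.mul_sum]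
  refine Finset.sum_congr rfl fun j _ => ?_
  simp only [Fin.revPerm_apply]
  rw [Algebra.smul_def, Algebra.smul_def, Fin.val_rev]
  have hj : (j : ℕ) < n + 1 := j.2
  have h1 : g ^ (n + 1) = g ^ (n + 1 - (j + 1)) * g ^ (j : ℕ) * g := by
    rw [← pow_add, ← pow_succ]
    congr 1
    omega
  rw [h1, inv_pow]
  field_simp

theorem mem_colon_M (g : L) (hg : g ≠ 0) (n : ℕ) (a : A) :
    a ∈ colonI (Mn A g n) (g ^ (n + 1)) ↔
      ∃ c : Fin (n + 1) → A, algebraMap A L a = g⁻¹ * ∑ i, c i • (g⁻¹) ^ (i : ℕ) := by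
  rw [mem_colonI, mem_Mn]
  have hgn : g ^ (n + 1) ≠ 0 := pow_ne_zero _ hg
  constructor
  · rintro ⟨c, hc⟩
    refine ⟨fun j => c (Fin.rev j), ?_⟩
    rw [sum_rev_identity g hg n c, Algebra.smul_def, mul_comm (algebraMap A L a)] at hc
    exact (mul_left_cancel₀ hgn hc).symm
  · rintro ⟨c, hc⟩
    refine ⟨fun j => c (Fin.rev j), ?_⟩
    rw [sum_rev_identity g hg n (fun j => c (Fin.rev j)), Algebra.smul_def,
      mul_comm (algebraMap A L a)]
    simp only [Fin.rev_rev]
    rw [← hc]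

theorem Mn_mono (g : L) (n : ℕ) : Mn A g n ≤ Mn A g (n + 1) := by
  unfold Mn
  rw [Submodule.span_le]
  rintro _ ⟨i, rfl⟩
  exact pow_mem_Mn g (n + 1) i (by have := i.2; omega)

theorem gMn_le (g : L) (hg : g ≠ 0) (n : ℕ) :
    (Mn A g n).map (mulg A g hg) ≤ Mn A g (n + 1) := by
  rw [Submodule.map_le_iff_le_comap]
  have hM : Mn A g n = Submodule.span A (Set.range fun i : Fin (n + 1) => g ^ (i : ℕ)) := rfl
  rw [hM, Submodule.span_le]
  rintro _ ⟨i, rfl⟩
  rw [SetLike.mem_coe, Submodule.mem_comap, mulg_apply, ← pow_succ']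
  exact pow_mem_Mn g (n + 1) (i + 1) (by have := i.2; omega)

theorem Mn_succ_le_sup_pow (g : L) (n : ℕ) :
    Mn A g (n + 1) ≤ Mn A g n ⊔ Submodule.span A {g ^ (n + 1)} := by
  intro x hx
  obtain ⟨c, rfl⟩ := (mem_Mn g (n + 1) x).mp hx
  rw [Fin.sum_univ_castSucc]
  refine Submodule.add_mem_sup ?_ ?_
  · refine (mem_Mn g n _).mpr ⟨fun i => c i.castSucc, ?_⟩
    rfl
  · rw [Submodule.mem_span_singleton]
    exact ⟨c (Fin.last (n + 1)), rfl⟩

theorem Mn_succ_le_sup_one (g : L) (hg : g ≠ 0) (n : ℕ) :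
    Mn A g (n + 1) ≤ (Mn A g n).map (mulg A g hg) ⊔ Submodule.span A {(1 : L)} := by
  intro x hx
  obtain ⟨c, rfl⟩ := (mem_Mn g (n + 1) x).mp hx
  rw [Fin.sum_univ_succ, add_comm]
  refine Submodule.add_mem_sup ?_ ?_
  · rw [Submodule.mem_map]
    refine ⟨∑ i : Fin (n + 1), c i.succ • g ^ (i : ℕ), (mem_Mn g n _).mpr ⟨_, rfl⟩, ?_⟩
    rw [mulg_apply, Finset.mul_sum]
    refine Finset.sum_congr rfl fun i _ => ?_
    rw [Fin.val_succ, pow_succ', Algebra.smul_def, Algebra.smul_def]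
    ring
  · rw [Submodule.mem_span_singleton]
    refine ⟨c 0, ?_⟩
    simp

end Main

section Dist

variable {A : Type u} [CommRing A] [IsDomain A] [IsNoetherianRing A] [Ring.KrullDimLE 1 A]
  {L : Type u} [Field L] [Algebra A L] [IsFractionRing A L]

theorem isLattice_Mn (g : L) (n : ℕ) : Submodule.IsLattice L (Mn A g n) := by
  constructor
  · exact Submodule.fg_span (Set.finite_range _)
  · rw [Submodule.eq_top_iff']
    intro x
    have h1 : (1 : L) ∈ Mn A g n := by
      have := pow_mem_Mn (A := A) g n 0 (Nat.zero_le _)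
      rwa [pow_zero] at this
    have h2 : x = x • (1 : L) := by simp
    rw [h2]
    exact Submodule.smul_mem _ _ (Submodule.subset_span h1)

theorem det_smulOfNeZero (g : L) (hg : g ≠ 0) :
    LinearMap.det (LinearEquiv.smulOfNeZero L L g hg).toLinearMap = g := by
  have h1 : (LinearEquiv.smulOfNeZero L L g hg).toLinearMap = g • LinearMap.id := by
    ext
    simp
  rw [h1, LinearMap.det_smul, LinearMap.det_id, Module.finrank_self]
  simp

theorem ordFrac_eq_sub_n (g : L) (hg : g ≠ 0) (n : ℕ) :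
    CycAlg.ordFrac A L g =
      ((Module.length A (A ⧸ colonI ((Mn A g n).map (mulg A g hg)) (1 : L))).toNat : ℤ) -
      ((Module.length A (A ⧸ colonI (Mn A g n) (g ^ (n + 1)))).toNat : ℤ) := by
  have hM := isLattice_Mn (A := A) g n
  have hP := isLattice_Mn (A := A) g (n + 1)
  have hgM := isLattice_map (A := A) (LinearEquiv.smulOfNeZero L L g hg) hM
  have hd := dist_lattice (A := A) hM (LinearEquiv.smulOfNeZero L L g hg)
  rw [det_smulOfNeZero g hg] at hd
  have t1 := dist_triangle hM hP hgM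
  have t2 : dist (Mn A g n) (Mn A g (n + 1)) = - dist (Mn A g (n + 1)) (Mn A g n) :=
    dist_comm (Mn A g (n + 1)) (Mn A g n)
  have t3 := dist_of_le (Mn_mono (A := A) g n)
  have t4 : dist (Mn A g (n + 1)) ((Mn A g n).map (mulg A g hg)) = _ :=
    dist_of_le (gMn_le (A := A) g hg n)
  have r1 := rl_eq_length_colonI (Mn A g n) (Mn A g (n + 1)) (g ^ (n + 1))
    (pow_mem_Mn g (n + 1) (n + 1) le_rfl) (Mn_succ_le_sup_pow g n)
  have h1 : (1 : L) ∈ Mn A g (n + 1) := by
    have := pow_mem_Mn (A := A) g (n + 1) 0 (Nat.zero_le _)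
    rwa [pow_zero] at this
  have r2 := rl_eq_length_colonI ((Mn A g n).map (mulg A g hg)) (Mn A g (n + 1)) (1 : L)
    h1 (Mn_succ_le_sup_one g hg n)
  rw [← hd]
  rw [r1] at t3
  rw [r2] at t4
  have t1' : dist (Mn A g n) (Mn A g (n + 1)) +
      dist (Mn A g (n + 1)) ((Mn A g n).map (mulg A g hg)) =
      dist (Mn A g n) ((Mn A g n).map (mulg A g hg)) := t1
  change dist (Mn A g n) ((Mn A g n).map (mulg A g hg)) = _
  linarith

theorem colon_gM_eq_I0 (g : L) (hg : g ≠ 0) :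
    ∃ N : ℕ, ∀ n, N ≤ n → colonI ((Mn A g n).map (mulg A g hg)) (1 : L) = I0 A g := by
  classical
  have hfg : (I0 A g).FG := IsNoetherian.noetherian (I0 A g)
  obtain ⟨s, hs⟩ := hfg
  have hsI : ∀ a ∈ s, a ∈ I0 A g := by
    intro a ha
    rw [← hs]
    exact Ideal.subset_span ha
  have hch : ∀ a : A, ∃ P : Polynomial A, a ∈ s → algebraMap A L a = g * Polynomial.aeval g P := by
    intro a
    by_cases ha : a ∈ s
    · obtain ⟨P, hP⟩ := hsI a ha
      exact ⟨P, fun _ => hP⟩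
    · exact ⟨0, fun h => absurd h ha⟩
  choose Pf hPf using hch
  refine ⟨s.sup (fun a => (Pf a).natDegree), fun n hn => ?_⟩
  apply le_antisymm
  · intro a ha
    obtain ⟨c, hc⟩ := (mem_colon_gM g hg n a).mp ha
    refine ⟨∑ i, Polynomial.C (c i) * Polynomial.X ^ (i : ℕ), ?_⟩
    rw [hc, map_sum]
    congr 1
    refine Finset.sum_congr rfl fun i _ => ?_
    rw [map_mul, Polynomial.aeval_C, map_pow, Polynomial.aeval_X, Algebra.smul_def]
  · rw [← hs, Ideal.span_le]
    intro a ha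
    have hdeg : (Pf a).natDegree < n + 1 := by
      have h1 : (Pf a).natDegree ≤ s.sup (fun a => (Pf a).natDegree) :=
        Finset.le_sup (f := fun a => (Pf a).natDegree) ha
      omega
    show a ∈ colonI ((Mn A g n).map (mulg A g hg)) (1 : L)
    rw [mem_colon_gM]
    refine ⟨fun i => (Pf a).coeff (i : ℕ), ?_⟩
    rw [hPf a ha, Polynomial.aeval_eq_sum_range' hdeg, Finset.sum_range]

/-- the order of `g` is the difference of the colengths of `A ∩ g A[g]` and `A ∩ g⁻¹ A[g⁻¹]` -/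
theorem ordFrac_eq_sub (g : L) (hg : g ≠ 0) :
    CycAlg.ordFrac A L g =
      ((Module.length A (A ⧸ I0 A g)).toNat : ℤ) -
      ((Module.length A (A ⧸ I0 A g⁻¹)).toNat : ℤ) := by
  have hg' : g⁻¹ ≠ 0 := inv_ne_zero hg
  obtain ⟨N₁, h₁⟩ := colon_gM_eq_I0 (A := A) g hg
  obtain ⟨N₂, h₂⟩ := colon_gM_eq_I0 (A := A) g⁻¹ hg'
  have e1 := h₁ (max N₁ N₂) (le_max_left _ _)
  have e2 := h₂ (max N₁ N₂) (le_max_right _ _)
  have e3 : colonI (Mn A g (max N₁ N₂)) (g ^ (max N₁ N₂ + 1)) = I0 A g⁻¹ := by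
    rw [← e2]
    ext a
    rw [mem_colon_M g hg, mem_colon_gM g⁻¹ hg']
  rw [ordFrac_eq_sub_n g hg (max N₁ N₂), length_quot_congr e1, length_quot_congr e3]

end Dist

end Groth.Agent.Helper7.PDeg
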