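import Mathlib
import Groth.Agent.Lib.Helper7.PDeg.Alg
import Groth.Agent.Lib.Helper7.Spz.PullGen

set_option linter.style.haveILetI false
set_option linter.unusedVariables false
set_option linter.unusedSectionVars false
set_option autoImplicit false
set_option backward.isDefEq.respectTransparency.types false
set_option synthInstance.maxHeartbeats 400000
set_option maxHeartbeats 1600000

namespace Groth.Agent.Helper7.PDeg

open Groth.Agent.Helper7.KL Groth.Agent.Helper7.Spz

universe u

/-! helper7: helper7: chart algebra for the graph closure: primes over (p, t), inertia degree one, immediacy, and the colength identity -/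

section Chart

variable {R B L : Type u} [CommRing R] [CommRing B] [Field L] [Algebra R B] [Algebra R L]
  [Algebra B L] [IsScalarTower R B L]

theorem exists_decomp (t : B) (hgen : ∀ b : B, ∃ P : Polynomial R, b = Polynomial.aeval t P)
    (b : B) : ∃ (r : R) (b₁ : B), b = algebraMap R B r + t * b₁ := by
  obtain ⟨P, rfl⟩ := hgen b
  refine ⟨P.coeff 0, Polynomial.aeval t P.divX, ?_⟩
  conv_lhs => rw [← Polynomial.divX_mul_X_add P]
  rw [map_add, map_mul, Polynomial.aeval_X, Polynomial.aeval_C]
  ring

theorem prime_le_of_comap (t : B) (hgen : ∀ b : B, ∃ P : Polynomial R, b = Polynomial.aeval t P)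
    (q q' : Ideal B) (hqq' : q.comap (algebraMap R B) ≤ q'.comap (algebraMap R B))
    (ht : t ∈ q) (ht' : t ∈ q') : q ≤ q' := by
  intro b hb
  obtain ⟨r, b₁, rfl⟩ := exists_decomp t hgen b
  have h1 : algebraMap R B r ∈ q := by
    have h2 : algebraMap R B r = (algebraMap R B r + t * b₁) - t * b₁ := by ring
    rw [h2]
    exact q.sub_mem hb (q.mul_mem_right _ ht)
  have h3 : algebraMap R B r ∈ q' := hqq' h1
  exact q'.add_mem h3 (q'.mul_mem_right _ ht')

theorem prime_unique (t : B) (hgen : ∀ b : B, ∃ P : Polynomial R, b = Polynomial.aeval t P)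
    (q q' : Ideal B) (hqq' : q.comap (algebraMap R B) = q'.comap (algebraMap R B))
    (ht : t ∈ q) (ht' : t ∈ q') : q = q' :=
  le_antisymm (prime_le_of_comap t hgen q q' hqq'.le ht ht')
    (prime_le_of_comap t hgen q' q hqq'.ge ht' ht)

theorem isMaximal_of_mem (t : B) (hgen : ∀ b : B, ∃ P : Polynomial R, b = Polynomial.aeval t P)
    (p : Ideal R) [hp : p.IsMaximal] (q : Ideal B) [hqp : q.IsPrime]
    (hq : q.comap (algebraMap R B) = p) (ht : t ∈ q) : q.IsMaximal := by
  let κ : R →+* B ⧸ q := (Ideal.Quotient.mk q).comp (algebraMap R B)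
  have hκ : Function.Surjective κ := by
    intro y
    obtain ⟨b, rfl⟩ := Ideal.Quotient.mk_surjective y
    obtain ⟨r, b₁, rfl⟩ := exists_decomp t hgen b
    refine ⟨r, ?_⟩
    show Ideal.Quotient.mk q (algebraMap R B r) = _
    rw [Ideal.Quotient.eq]
    have h2 : algebraMap R B r - (algebraMap R B r + t * b₁) = - (t * b₁) := by ring
    rw [h2]
    exact q.neg_mem (q.mul_mem_right _ ht)
  have hker : RingHom.ker κ = p := by
    rw [← hq]
    ext r
    rw [RingHom.mem_ker, Ideal.mem_comap]
    show Ideal.Quotient.mk q (algebraMap R B r) = 0 ↔ _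
    rw [Ideal.Quotient.eq_zero_iff_mem]
  haveI : (RingHom.ker κ).IsMaximal := hker ▸ hp
  letI := Ideal.Quotient.field (RingHom.ker κ)
  let e := RingHom.quotientKerEquivOfSurjective hκ
  have hfield : IsField (B ⧸ q) :=
    MulEquiv.isField (Field.toIsField (R ⧸ RingHom.ker κ)) e.symm.toMulEquiv
  exact Ideal.Quotient.maximal_of_isField q hfield

theorem inertiaDeg_eq_one (t : B)
    (hgen : ∀ b : B, ∃ P : Polynomial R, b = Polynomial.aeval t P)
    (p : Ideal R) [hp : p.IsMaximal] (q : Ideal B) [hqp : q.IsPrime]
    (hq : q.comap (algebraMap R B) = p) (ht : t ∈ q) : q.inertiaDeg R = 1 := by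
  haveI hqm : q.IsMaximal := isMaximal_of_mem t hgen p q hq ht
  haveI hlo : q.LiesOver p := ⟨hq.symm⟩
  rw [Ideal.inertiaDeg_eq_of_isMaximal p q]
  letI := Ideal.Quotient.field p
  rw [finrank_eq_one_iff_of_nonzero' (1 : B ⧸ q) one_ne_zero]
  intro w
  obtain ⟨b, rfl⟩ := Ideal.Quotient.mk_surjective w
  obtain ⟨r, b₁, rfl⟩ := exists_decomp t hgen b
  refine ⟨Ideal.Quotient.mk p r, ?_⟩
  rw [Algebra.smul_def, mul_one, Ideal.Quotient.algebraMap_mk_of_liesOver, Ideal.Quotient.eq]
  have h2 : algebraMap R B r - (algebraMap R B r + t * b₁) = - (t * b₁) := by ring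
  rw [h2]
  exact q.neg_mem (q.mul_mem_right _ ht)

theorem eq_bot_of_comap_eq_bot [IsDomain R] [IsFractionRing R L]
    (hBL : Function.Injective (algebraMap B L)) (q : Ideal B)
    (hq : q.comap (algebraMap R B) = ⊥) : q = ⊥ := by
  rw [eq_bot_iff]
  intro b hb
  rw [Ideal.mem_bot]
  by_contra hb0
  obtain ⟨r, s, hs, hrs⟩ := IsFractionRing.div_surjective (A := R) (algebraMap B L b)
  have hsL : algebraMap R L s ≠ 0 :=
    IsFractionRing.to_map_ne_zero_of_mem_nonZeroDivisors hs
  have h1 : algebraMap B L (b * algebraMap R B s) = algebraMap B L (algebraMap R B r) := by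
    rw [map_mul, ← IsScalarTower.algebraMap_apply R B L, ← IsScalarTower.algebraMap_apply R B L,
      ← hrs]
    field_simp
  have h2 : b * algebraMap R B s = algebraMap R B r := hBL h1
  have h3 : algebraMap R B r ∈ q := by
    rw [← h2]
    exact q.mul_mem_right _ hb
  have h4 : r ∈ q.comap (algebraMap R B) := h3
  rw [hq, Ideal.mem_bot] at h4
  rw [h4, map_zero] at h2
  have h5 : algebraMap B L (b * algebraMap R B s) = 0 := by rw [h2, map_zero]
  rw [map_mul, ← IsScalarTower.algebraMap_apply R B L] at h5
  rcases mul_eq_zero.mp h5 with h6 | h6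
  · exact hb0 (hBL (h6.trans (map_zero _).symm))
  · exact hsL h6

theorem mem_minimalPrimes_span [IsDomain R] [IsFractionRing R L] [Ring.KrullDimLE 1 R]
    (hBL : Function.Injective (algebraMap B L)) (t : B)
    (hgen : ∀ b : B, ∃ P : Polynomial R, b = Polynomial.aeval t P) (ht0 : t ≠ 0)
    (q : Ideal B) [hqp : q.IsPrime] (ht : t ∈ q) : q ∈ (Ideal.span {t}).minimalPrimes := by
  refine ⟨⟨hqp, (Ideal.span_singleton_le_iff_mem q).mpr ht⟩, ?_⟩
  rintro q'' ⟨hq''p, hq''t⟩ hq''q
  have ht'' : t ∈ q'' := (Ideal.span_singleton_le_iff_mem q'').mp hq''t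
  -- a nonzero element of `R` in the contraction of `q''`
  obtain ⟨r, s, hs, hrs⟩ := IsFractionRing.div_surjective (A := R) (algebraMap B L t)
  have hsL : algebraMap R L s ≠ 0 :=
    IsFractionRing.to_map_ne_zero_of_mem_nonZeroDivisors hs
  have h1 : algebraMap B L (t * algebraMap R B s) = algebraMap B L (algebraMap R B r) := by
    rw [map_mul, ← IsScalarTower.algebraMap_apply R B L, ← IsScalarTower.algebraMap_apply R B L,
      ← hrs]
    field_simp
  have h2 : t * algebraMap R B s = algebraMap R B r := hBL h1
  have hr0 : r ≠ 0 := by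
    intro hr
    rw [hr, map_zero] at h2
    have h5 : algebraMap B L (t * algebraMap R B s) = 0 := by rw [h2, map_zero]
    rw [map_mul, ← IsScalarTower.algebraMap_apply R B L] at h5
    rcases mul_eq_zero.mp h5 with h6 | h6
    · exact ht0 (hBL (h6.trans (map_zero _).symm))
    · exact hsL h6
  have hrq'' : r ∈ q''.comap (algebraMap R B) := by
    show algebraMap R B r ∈ q''
    rw [← h2]
    exact q''.mul_mem_right _ ht''
  have hne : q''.comap (algebraMap R B) ≠ ⊥ := by
    intro h
    rw [h, Ideal.mem_bot] at hrq''
    exact hr0 hrq''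
  haveI : (q''.comap (algebraMap R B)).IsPrime := Ideal.comap_isPrime _ _
  haveI hmax : (q''.comap (algebraMap R B)).IsMaximal :=
    Ideal.isMaximal_of_isPrime_of_ne_bot _ hne
  have hle : q''.comap (algebraMap R B) ≤ q.comap (algebraMap R B) := Ideal.comap_mono hq''q
  have hne_top : q.comap (algebraMap R B) ≠ ⊤ := Ideal.IsPrime.ne_top'
  have heq : q''.comap (algebraMap R B) = q.comap (algebraMap R B) :=
    hmax.eq_of_le hne_top hle
  exact prime_le_of_comap t hgen q q'' heq.ge ht ht''

theorem prime_imm [IsDomain R] [IsFractionRing R L] [Ring.KrullDimLE 1 R] [IsDomain B]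
    [IsNoetherianRing B]
    (hBL : Function.Injective (algebraMap B L)) (t : B)
    (hgen : ∀ b : B, ∃ P : Polynomial R, b = Polynomial.aeval t P) (ht0 : t ≠ 0)
    (q : Ideal B) [hqp : q.IsPrime] (ht : t ∈ q) (q' : Ideal B) [hq'p : q'.IsPrime]
    (hle : q' ≤ q) : q' = ⊥ ∨ q' = q := by
  have hmin := mem_minimalPrimes_span hBL t hgen ht0 q ht
  have hh : q.height ≤ 1 :=
    Ideal.height_le_one_of_isPrincipal_of_mem_minimalPrimes (Ideal.span {t}) q hmin
  by_cases hqq : q' = q
  · exact Or.inr hqq
  · left
    have hlt : q' < q := lt_of_le_of_ne hle hqq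
    have h1 : q'.height < q.height := Ideal.height_strict_mono_of_isPrime_of_isPrime hlt
    have h2 : q'.height < 1 := lt_of_lt_of_le h1 hh
    have h3 : q'.height = 0 := Order.lt_one_iff.mp h2
    exact Ideal.height_eq_zero_iff_eq_bot.mp h3

section Loc

variable (A : Type u) [CommRing A] [Algebra R A] [Algebra A L] [IsScalarTower R A L]

theorem algebraMap_mem_I0_of_mem_span (t : B)
    (hgen : ∀ b : B, ∃ P : Polynomial R, b = Polynomial.aeval t P) (r : R)
    (hr : algebraMap R B r ∈ Ideal.span {t}) :
    algebraMap R A r ∈ I0 A (algebraMap B L t) := by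
  obtain ⟨b, hb⟩ := Ideal.mem_span_singleton'.mp hr
  obtain ⟨P, rfl⟩ := hgen b
  refine ⟨P.map (algebraMap R A), ?_⟩
  rw [Polynomial.aeval_map_algebraMap, ← IsScalarTower.algebraMap_apply R A L,
    IsScalarTower.algebraMap_apply R B L, ← hb, map_mul, Polynomial.aeval_algebraMap_apply]
  ring

theorem exists_prime_of_I0_ne_top (t : B)
    (hgen : ∀ b : B, ∃ P : Polynomial R, b = Polynomial.aeval t P)
    (p : Ideal R) [hp : p.IsMaximal] [IsLocalization.AtPrime A p]
    (hI : I0 A (algebraMap B L t) ≠ ⊤) :
    ∃ q : Ideal B, q.IsPrime ∧ q.comap (algebraMap R B) = p ∧ t ∈ q := by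
  have hclaim : ∀ r : R, algebraMap R B r ∈ Ideal.span {t} → r ∈ p := by
    intro r hr
    by_contra hrp
    apply hI
    have hu : IsUnit (algebraMap R A r) :=
      IsLocalization.map_units A (⟨r, hrp⟩ : p.primeCompl)
    exact Ideal.eq_top_of_isUnit_mem _ (algebraMap_mem_I0_of_mem_span A t hgen r hr) hu
  have hne : p.map (algebraMap R B) ⊔ Ideal.span {t} ≠ ⊤ := by
    intro htop
    have h1 : (1 : B) ∈ p.map (algebraMap R B) ⊔ Ideal.span {t} := by
      rw [htop]
      exact Submodule.mem_top
    obtain ⟨y, hy, z, hz, hyz⟩ := Submodule.mem_sup.mp h1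
    let κ : B →+* B ⧸ Ideal.span {t} := Ideal.Quotient.mk (Ideal.span {t})
    let ρ : R →+* B ⧸ Ideal.span {t} := κ.comp (algebraMap R B)
    have hρ : Function.Surjective ρ := by
      intro w
      obtain ⟨b, rfl⟩ := Ideal.Quotient.mk_surjective w
      obtain ⟨r, b₁, rfl⟩ := exists_decomp t hgen b
      refine ⟨r, ?_⟩
      show Ideal.Quotient.mk _ (algebraMap R B r) = _
      rw [Ideal.Quotient.eq]
      have h2 : algebraMap R B r - (algebraMap R B r + t * b₁) = - (t * b₁) := by ring
      rw [h2]
      exact (Ideal.span {t}).neg_mem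
        ((Ideal.span {t}).mul_mem_right _ (Ideal.mem_span_singleton_self t))
    have hκy : κ y ∈ p.map ρ := by
      have h3 : κ y ∈ (p.map (algebraMap R B)).map κ := Ideal.mem_map_of_mem κ hy
      rwa [Ideal.map_map] at h3
    have hκ1 : κ y = 1 := by
      have h4 : κ (y + z) = 1 := by rw [hyz, map_one]
      rw [map_add] at h4
      have h5 : κ z = 0 := Ideal.Quotient.eq_zero_iff_mem.mpr hz
      rw [h5, add_zero] at h4
      exact h4
    rw [hκ1] at hκy
    obtain ⟨r, hrp, hr1⟩ := (Ideal.mem_map_iff_of_surjective ρ hρ).mp hκy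
    have h6 : algebraMap R B (1 - r) ∈ Ideal.span {t} := by
      rw [← Ideal.Quotient.eq_zero_iff_mem]
      show ρ (1 - r) = 0
      rw [map_sub, map_one, hr1, sub_self]
    have h7 := hclaim (1 - r) h6
    have h8 : (1 : R) ∈ p := by
      have : (1 : R) = (1 - r) + r := by ring
      rw [this]
      exact p.add_mem h7 hrp
    exact hp.ne_top ((Ideal.eq_top_iff_one p).mpr h8)
  obtain ⟨q, hqm, hq⟩ := Ideal.exists_le_maximal _ hne
  haveI := hqm
  refine ⟨q, hqm.isPrime, ?_, ?_⟩
  · symm
    apply hp.eq_of_le Ideal.IsPrime.ne_top'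
    intro r hr
    show algebraMap R B r ∈ q
    exact hq (Ideal.mem_sup_left (Ideal.mem_map_of_mem _ hr))
  · exact hq (Ideal.mem_sup_right (Ideal.mem_span_singleton_self t))

theorem length_chart (hBL : Function.Injective (algebraMap B L)) (t : B)
    (hgen : ∀ b : B, ∃ P : Polynomial R, b = Polynomial.aeval t P)
    (p : Ideal R) [hp : p.IsPrime] [IsLocalization.AtPrime A p] (q : Ideal B) [hqp : q.IsPrime]
    (hq : q.comap (algebraMap R B) = p) (ht : t ∈ q) :
    Module.length (Localization.AtPrime q)
        (Localization.AtPrime q ⧸ Ideal.span {algebraMap B (Localization.AtPrime q) t}) =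
      Module.length A (A ⧸ I0 A (algebraMap B L t)) := by
  classical
  have hunit : ∀ y : p.primeCompl, IsUnit (((algebraMap B (Localization.AtPrime q)).comp
      (algebraMap R B)) y) := by
    intro y
    have hy : algebraMap R B y ∈ q.primeCompl := by
      intro hy
      have h1 : (y : R) ∈ q.comap (algebraMap R B) := hy
      rw [hq] at h1
      exact y.2 h1
    exact IsLocalization.map_units (Localization.AtPrime q) (⟨algebraMap R B y, hy⟩ : q.primeCompl)
  let lam : A →+* Localization.AtPrime q := IsLocalization.lift (M := p.primeCompl) hunit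
  have hlam : ∀ r : R, lam (algebraMap R A r) =
      algebraMap B (Localization.AtPrime q) (algebraMap R B r) :=
    fun r => IsLocalization.lift_eq hunit r
  have hunit' : ∀ y : q.primeCompl, IsUnit (algebraMap B L y) := by
    intro y
    apply IsUnit.mk0
    intro h0
    have h1 : (y : B) = 0 := hBL (h0.trans (map_zero _).symm)
    exact y.2 (h1 ▸ q.zero_mem)
  let eps : Localization.AtPrime q →+* L := IsLocalization.lift (M := q.primeCompl) hunit'
  have heps : ∀ b : B, eps (algebraMap B (Localization.AtPrime q) b) = algebraMap B L b :=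
    fun b => IsLocalization.lift_eq hunit' b
  have heps_inj : Function.Injective eps := by
    rw [injective_iff_map_eq_zero]
    intro c hc
    obtain ⟨b, s, rfl⟩ := IsLocalization.exists_mk'_eq q.primeCompl c
    have h1 := IsLocalization.mk'_spec (Localization.AtPrime q) b s
    have h2 := congrArg eps h1
    rw [map_mul, hc, zero_mul, heps] at h2
    have h3 : b = 0 := hBL (h2.symm.trans (map_zero _).symm)
    rw [h3, IsLocalization.mk'_zero]
  have hcomp : ∀ a : A, eps (lam a) = algebraMap A L a := by
    have h1 : eps.comp lam = algebraMap A L := by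
      apply IsLocalization.ringHom_ext p.primeCompl
      ext r
      show eps (lam (algebraMap R A r)) = algebraMap A L (algebraMap R A r)
      rw [hlam, heps, ← IsScalarTower.algebraMap_apply R B L,
        ← IsScalarTower.algebraMap_apply R A L]
    intro a
    exact congrArg (fun φ : A →+* L => φ a) h1
  -- the key property of denominators
  have hden : ∀ (s : B) (r : R) (s₁ : B), s ∉ q → s = algebraMap R B r + t * s₁ → r ∉ p := by
    intro s r s₁ hs hsd hr
    apply hs
    rw [hsd]
    have h1 : algebraMap R B r ∈ q := by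
      have : r ∈ q.comap (algebraMap R B) := hq ▸ hr
      exact this
    exact q.add_mem h1 (q.mul_mem_right _ ht)
  let J : Ideal (Localization.AtPrime q) :=
    Ideal.span {algebraMap B (Localization.AtPrime q) t}
  let θ : A →+* Localization.AtPrime q ⧸ J := (Ideal.Quotient.mk J).comp lam
  have hθ : Function.Surjective θ := by
    intro d
    obtain ⟨c, rfl⟩ := Ideal.Quotient.mk_surjective d
    obtain ⟨b, s, rfl⟩ := IsLocalization.exists_mk'_eq q.primeCompl c
    obtain ⟨rb, b₁, hb⟩ := exists_decomp t hgen b
    obtain ⟨rs, s₁, hs⟩ := exists_decomp t hgen (s : B)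
    have hrs : rs ∉ p := hden s rs s₁ s.2 hs
    refine ⟨IsLocalization.mk' A rb (⟨rs, hrs⟩ : p.primeCompl), ?_⟩
    show Ideal.Quotient.mk J (lam (IsLocalization.mk' A rb (⟨rs, hrs⟩ : p.primeCompl))) = _
    rw [Ideal.Quotient.eq]
    have h1 : lam (IsLocalization.mk' A rb (⟨rs, hrs⟩ : p.primeCompl)) *
        algebraMap B (Localization.AtPrime q) (algebraMap R B rs) =
        algebraMap B (Localization.AtPrime q) (algebraMap R B rb) := by
      rw [← hlam, ← hlam, ← map_mul]
      congr 1
      exact IsLocalization.mk'_spec A rb (⟨rs, hrs⟩ : p.primeCompl)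
    have h2 := IsLocalization.mk'_spec (Localization.AtPrime q) b s
    have hu1 : IsUnit (algebraMap B (Localization.AtPrime q) (algebraMap R B rs)) :=
      hunit ⟨rs, hrs⟩
    have hu2 : IsUnit (algebraMap B (Localization.AtPrime q) (s : B)) :=
      IsLocalization.map_units (Localization.AtPrime q) s
    rw [← Ideal.mul_unit_mem_iff_mem J (hu1.mul hu2)]
    have h3 : (lam (IsLocalization.mk' A rb (⟨rs, hrs⟩ : p.primeCompl)) -
        IsLocalization.mk' (Localization.AtPrime q) b s) *
        (algebraMap B (Localization.AtPrime q) (algebraMap R B rs) *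
          algebraMap B (Localization.AtPrime q) (s : B)) =
        algebraMap B (Localization.AtPrime q) t *
          algebraMap B (Localization.AtPrime q) (algebraMap R B rb * s₁ - b₁ * algebraMap R B rs) := by
      have e1 : (lam (IsLocalization.mk' A rb (⟨rs, hrs⟩ : p.primeCompl)) -
          IsLocalization.mk' (Localization.AtPrime q) b s) *
          (algebraMap B (Localization.AtPrime q) (algebraMap R B rs) *
            algebraMap B (Localization.AtPrime q) (s : B)) =
          (lam (IsLocalization.mk' A rb (⟨rs, hrs⟩ : p.primeCompl)) *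
            algebraMap B (Localization.AtPrime q) (algebraMap R B rs)) *
              algebraMap B (Localization.AtPrime q) (s : B) -
          (IsLocalization.mk' (Localization.AtPrime q) b s *
            algebraMap B (Localization.AtPrime q) (s : B)) *
              algebraMap B (Localization.AtPrime q) (algebraMap R B rs) := by ring
      rw [e1, h1, h2, ← map_mul, ← map_mul, ← map_sub, ← map_mul]
      congr 1
      conv_lhs => rw [hs, hb]
      ring
    rw [h3]
    exact J.mul_mem_right _ (Ideal.mem_span_singleton_self _)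
  have hker : RingHom.ker θ = I0 A (algebraMap B L t) := by
    ext a
    rw [RingHom.mem_ker]
    show Ideal.Quotient.mk J (lam a) = 0 ↔ _
    rw [Ideal.Quotient.eq_zero_iff_mem]
    constructor
    · intro ha
      obtain ⟨c, hc⟩ := Ideal.mem_span_singleton'.mp ha
      obtain ⟨b, s, rfl⟩ := IsLocalization.exists_mk'_eq q.primeCompl c
      obtain ⟨Pb, hPb⟩ := hgen b
      obtain ⟨rs, s₁, hs⟩ := exists_decomp t hgen (s : B)
      obtain ⟨Ps, hPs⟩ := hgen s₁
      have hrs : rs ∉ p := hden s rs s₁ s.2 hs
      have h2 := IsLocalization.mk'_spec (Localization.AtPrime q) b s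
      have h3 := congrArg eps h2
      rw [map_mul, heps, heps] at h3
      have h4 := congrArg eps hc
      rw [map_mul, heps, hcomp] at h4
      -- ā * s_L = g * b_L
      have h5 : algebraMap A L a * algebraMap B L (s : B) =
          algebraMap B L t * algebraMap B L b := by
        rw [← h4, ← h3]
        ring
      have hu : IsUnit (algebraMap R A rs) :=
        IsLocalization.map_units A (⟨rs, hrs⟩ : p.primeCompl)
      rw [← Ideal.mul_unit_mem_iff_mem _ hu]
      refine ⟨Pb.map (algebraMap R A) - Polynomial.C a * Ps.map (algebraMap R A), ?_⟩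
      have hae : Polynomial.aeval (algebraMap B L t)
          (Pb.map (algebraMap R A) - Polynomial.C a * Ps.map (algebraMap R A)) =
          algebraMap B L b - algebraMap A L a * algebraMap B L s₁ := by
        rw [map_sub, map_mul, Polynomial.aeval_C, Polynomial.aeval_map_algebraMap,
          Polynomial.aeval_map_algebraMap, Polynomial.aeval_algebraMap_apply,
          Polynomial.aeval_algebraMap_apply, ← hPb, ← hPs]
      rw [hae, map_mul, ← IsScalarTower.algebraMap_apply R A L,
        IsScalarTower.algebraMap_apply R B L]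
      have h6 : algebraMap B L (s : B) =
          algebraMap B L (algebraMap R B rs) + algebraMap B L t * algebraMap B L s₁ := by
        conv_lhs => rw [hs]
        rw [map_add, map_mul]
      rw [h6] at h5
      linear_combination h5
    · rintro ⟨P, hP⟩
      obtain ⟨m, hmM, hm⟩ := IsLocalization.integerNormalization_spec p.primeCompl P
      have hum : IsUnit (algebraMap B (Localization.AtPrime q) (algebraMap R B m)) :=
        hunit ⟨m, hmM⟩
      rw [← Ideal.mul_unit_mem_iff_mem J hum]
      have h1 : lam a * algebraMap B (Localization.AtPrime q) (algebraMap R B m) =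
          algebraMap B (Localization.AtPrime q) t *
            algebraMap B (Localization.AtPrime q)
              (Polynomial.aeval t (IsLocalization.integerNormalization p.primeCompl P)) := by
        have e1 : algebraMap B L (Polynomial.aeval t
            (IsLocalization.integerNormalization p.primeCompl P)) =
            algebraMap R L m * Polynomial.aeval (algebraMap B L t) P := by
          rw [← Polynomial.aeval_algebraMap_apply,
            ← Polynomial.aeval_map_algebraMap A (algebraMap B L t)
              (IsLocalization.integerNormalization p.primeCompl P), hm,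
            ← algebraMap_smul A m P, Polynomial.smul_eq_C_mul, map_mul,
            Polynomial.aeval_C, ← IsScalarTower.algebraMap_apply R A L]
        apply heps_inj
        rw [map_mul, map_mul, hcomp, heps, heps, heps, e1, hP,
          ← IsScalarTower.algebraMap_apply R B L]
        ring
      rw [h1]
      exact J.mul_mem_right _ (Ideal.mem_span_singleton_self _)
  let e := RingHom.quotientKerEquivOfSurjective hθ
  have h1 := length_self_of_ringEquiv e
  rw [Module.length_eq_of_surjective (S := Localization.AtPrime q)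
      (R := Localization.AtPrime q ⧸ J) (M := Localization.AtPrime q ⧸ J)
      Ideal.Quotient.mk_surjective,
    ← length_quot_congr hker,
    Module.length_eq_of_surjective (S := A) (R := A ⧸ RingHom.ker θ) (M := A ⧸ RingHom.ker θ)
      Ideal.Quotient.mk_surjective]
  exact h1.symm

end Loc

end Chart

end Groth.Agent.Helper7.PDeg
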