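import Mathlib
import Groth.Prelude.Def_Cyc
import Groth.Agent.Lib.Helper7.PDeg.Graph
import Groth.Agent.Lib.Helper7.PDeg.Chart
import Groth.Agent.Lib.Helper7.FinPush.Geo

set_option linter.style.haveILetI false
set_option linter.unusedVariables false
set_option linter.unusedSectionVars false
set_option autoImplicit false
set_option backward.isDefEq.respectTransparency.types false
set_option synthInstance.maxHeartbeats 400000
set_option maxHeartbeats 1600000

namespace Groth.Agent.Helper7.PDeg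

open CategoryTheory CategoryTheory.Limits AlgebraicGeometry TopologicalSpace Opposite IsLocalRing
open AlgebraicGeometry.AffineSpace
open Groth.Agent.Helper7.DivFin Groth.Agent.Helper7.FinDeg Groth.Agent.Helper7.FinPush
open Groth.Agent.Helper7.KL

universe u

/-! helper7: helper7: the origin of the affine line over a field: prime, residue degree, order of the coordinate, immediacy -/

section General

theorem imm_of_mem_minimalPrimes {B : Type u} [CommRing B] [IsDomain B] [IsNoetherianRing B]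
    (t : B) (q : Ideal B) [hqp : q.IsPrime] (hmin : q ∈ (Ideal.span {t}).minimalPrimes)
    (q' : Ideal B) [hq'p : q'.IsPrime] (hle : q' ≤ q) : q' = ⊥ ∨ q' = q := by
  have hh : q.height ≤ 1 :=
    Ideal.height_le_one_of_isPrincipal_of_mem_minimalPrimes (Ideal.span {t}) q hmin
  by_cases hqq : q' = q
  · exact Or.inr hqq
  · left
    have hlt : q' < q := lt_of_le_of_ne hle hqq
    have h1 : q'.height < q.height := Ideal.height_strict_mono_of_isPrime_of_isPrime hlt
    have h2 : q'.height < 1 := lt_of_lt_of_le h1 hh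
    have h3 : q'.height = 0 := Order.lt_one_iff.mp h2
    exact Ideal.height_eq_zero_iff_eq_bot.mp h3

theorem imm_points {Y : Scheme.{u}} [IsIntegral Y] {U : Y.Opens} (hU : IsAffineOpen U) (y : Y)
    (hy : y ∈ U)
    (hq : ∀ q' : Ideal Γ(Y, U), q'.IsPrime → q' ≤ (hU.primeIdealOf ⟨y, hy⟩).asIdeal →
      q' = ⊥ ∨ q' = (hU.primeIdealOf ⟨y, hy⟩).asIdeal)
    (ξ : Y) (hξ : ξ = genericPoint Y) (w : Y) (h1 : ξ ⤳ w) (h2 : w ⤳ y) : w = ξ ∨ w = y := by
  have hw : w ∈ U := h2.mem_open U.isOpen hy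
  have hξU : ξ ∈ U := h1.mem_open U.isOpen hw
  have hle : (hU.primeIdealOf ⟨w, hw⟩).asIdeal ≤ (hU.primeIdealOf ⟨y, hy⟩).asIdeal :=
    (primeIdealOf_le_iff hU ⟨w, hw⟩ ⟨y, hy⟩).mpr h2
  rcases hq _ (hU.primeIdealOf ⟨w, hw⟩).isPrime hle with h | h
  · left
    have h3 := primeIdealOf_eq_bot_of_generic hU ξ hξ hξU
    have h4 : hU.primeIdealOf ⟨w, hw⟩ = hU.primeIdealOf ⟨ξ, hξU⟩ :=
      PrimeSpectrum.ext (h.trans h3.symm)
    exact congrArg Subtype.val (primeIdealOf_injective hU h4)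
  · right
    have h4 : hU.primeIdealOf ⟨w, hw⟩ = hU.primeIdealOf ⟨y, hy⟩ := PrimeSpectrum.ext h
    exact congrArg Subtype.val (primeIdealOf_injective hU h4)

theorem length_loc_quot_span_eq_one {B : Type u} [CommRing B] (t : B) (q : Ideal B)
    [hqp : q.IsPrime] (hq : q = Ideal.span {t}) :
    Module.length (Localization.AtPrime q)
      (Localization.AtPrime q ⧸ Ideal.span {algebraMap B (Localization.AtPrime q) t}) = 1 := by
  have h1 : Ideal.map (algebraMap B (Localization.AtPrime q)) (Ideal.span {t}) =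
      Ideal.span {algebraMap B (Localization.AtPrime q) t} := by
    rw [Ideal.map_span, Set.image_singleton]
  have h2 : Ideal.map (algebraMap B (Localization.AtPrime q)) q =
      maximalIdeal (Localization.AtPrime q) := Localization.AtPrime.map_eq_maximalIdeal
  have h3 : Ideal.map (algebraMap B (Localization.AtPrime q)) q =
      Ideal.map (algebraMap B (Localization.AtPrime q)) (Ideal.span {t}) := congrArg _ hq
  have h4 : Ideal.span {algebraMap B (Localization.AtPrime q) t} =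
      maximalIdeal (Localization.AtPrime q) := by rw [← h1, ← h3, h2]
  rw [length_quot_congr h4, Module.length_eq_one_iff, isSimpleModule_iff_isCoatom,
    ← Ideal.isMaximal_def]
  infer_instance

theorem isMaximal_of_isField_of_ne_top {F : Type u} [CommRing F] (hF : IsField F) (I : Ideal F)
    (hI : I ≠ ⊤) : I.IsMaximal := by
  rw [Ideal.isMaximal_iff]
  refine ⟨(Ideal.ne_top_iff_one I).mp hI, fun J x _ hxI hxJ => ?_⟩
  have hx0 : x ≠ 0 := fun h => hxI (h ▸ I.zero_mem)
  obtain ⟨y, hy⟩ := hF.mul_inv_cancel hx0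
  rw [← hy]
  exact J.mul_mem_right _ hxJ

end General

section Line

variable (K : Type u) [Field K]

/-- the coordinate on the affine line over a field -/
noncomputable abbrev uK : Γ(𝔸(PUnit.{u+1}; Spec (CommRingCat.of K)), ⊤) :=
  AffineSpace.coord (Spec (CommRingCat.of K)) PUnit.unit

/-- the structure map of the coordinate ring of the affine line -/
noncomputable abbrev rhoK : Γ(Spec (CommRingCat.of K), ⊤) →+*
    Γ(𝔸(PUnit.{u+1}; Spec (CommRingCat.of K)), ⊤) :=
  ((𝔸(PUnit.{u+1}; Spec (CommRingCat.of K)) ↘ Spec (CommRingCat.of K)).appTop).hom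

theorem isField_ΓSK : IsField Γ(Spec (CommRingCat.of K), ⊤) :=
  MulEquiv.isField (Field.toIsField K)
    (Scheme.ΓSpecIso (CommRingCat.of K)).commRingCatIsoToRingEquiv.toMulEquiv

theorem gen_AK (a : Γ(𝔸(PUnit.{u+1}; Spec (CommRingCat.of K)), ⊤)) :
    ∃ P : Polynomial Γ(Spec (CommRingCat.of K), ⊤),
      a = Polynomial.eval₂ (rhoK K) (uK K) P := by
  have hcl := closure_top_of_isAffine (n := PUnit.{u+1}) (Spec (CommRingCat.of K))
  have hr : Set.range (AffineSpace.coord (n := PUnit.{u+1}) (Spec (CommRingCat.of K))) =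
      {uK K} := by
    ext y
    constructor
    · rintro ⟨i, rfl⟩
      rfl
    · rintro rfl
      exact ⟨PUnit.unit, rfl⟩
  rw [hr] at hcl
  obtain ⟨P, hP⟩ := exists_poly_of_closure (rhoK K) (uK K) hcl (RingHom.id _)
    Function.surjective_id a
  exact ⟨P, hP⟩

/-- the zero section of the affine line -/
noncomputable def zeroSec : Spec (CommRingCat.of K) ⟶ 𝔸(PUnit.{u+1}; Spec (CommRingCat.of K)) :=
  homOfVector (𝟙 _) (fun _ => 0)

/-- evaluation at the origin -/
noncomputable abbrev ev0 : Γ(𝔸(PUnit.{u+1}; Spec (CommRingCat.of K)), ⊤) →+*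
    Γ(Spec (CommRingCat.of K), ⊤) := (zeroSec K).appTop.hom

theorem ev0_uK : ev0 K (uK K) = 0 := homOfVector_appTop_coord _ _ _

theorem ev0_rho (r : Γ(Spec (CommRingCat.of K), ⊤)) : ev0 K (rhoK K r) = r := by
  show ((𝔸(PUnit.{u+1}; Spec (CommRingCat.of K)) ↘ Spec (CommRingCat.of K)).appTop ≫
    (zeroSec K).appTop).hom r = r
  rw [← Scheme.Hom.comp_appTop, zeroSec, homOfVector_over]
  simp

theorem uK_ne_zero : uK K ≠ 0 := by
  intro h0
  have h1 := homOfVector_appTop_coord (n := PUnit.{u+1}) (𝟙 (Spec (CommRingCat.of K)))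
    (fun _ => (1 : Γ(Spec (CommRingCat.of K), ⊤))) PUnit.unit
  have h2 : (uK K) = 0 := h0
  change (homOfVector (𝟙 (Spec (CommRingCat.of K))) fun _ => 1).appTop (uK K) = 1 at h1
  rw [h2, map_zero] at h1
  haveI : Nontrivial Γ(Spec (CommRingCat.of K), ⊤) := (isField_ΓSK K).nontrivial
  exact zero_ne_one h1

theorem genP_AK (b : Γ(𝔸(PUnit.{u+1}; Spec (CommRingCat.of K)), ⊤)) :
    letI : Algebra Γ(Spec (CommRingCat.of K), ⊤)
      Γ(𝔸(PUnit.{u+1}; Spec (CommRingCat.of K)), ⊤) := (rhoK K).toAlgebra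
    ∃ P : Polynomial Γ(Spec (CommRingCat.of K), ⊤), b = Polynomial.aeval (uK K) P := by
  letI : Algebra Γ(Spec (CommRingCat.of K), ⊤)
    Γ(𝔸(PUnit.{u+1}; Spec (CommRingCat.of K)), ⊤) := (rhoK K).toAlgebra
  obtain ⟨P, hP⟩ := gen_AK K b
  exact ⟨P, by rw [Polynomial.aeval_def]; exact hP⟩

theorem ker_ev0 : RingHom.ker (ev0 K) = Ideal.span {uK K} := by
  letI : Algebra Γ(Spec (CommRingCat.of K), ⊤)
    Γ(𝔸(PUnit.{u+1}; Spec (CommRingCat.of K)), ⊤) := (rhoK K).toAlgebra
  apply le_antisymm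
  · intro a ha
    rw [RingHom.mem_ker] at ha
    obtain ⟨r, b₁, hb⟩ := exists_decomp (uK K) (genP_AK K) a
    have h1 : ev0 K a = r := by
      rw [hb, map_add, map_mul, ev0_uK, zero_mul, add_zero]
      exact ev0_rho K r
    rw [ha] at h1
    rw [hb, ← h1, map_zero, zero_add]
    exact Ideal.mul_mem_right _ _ (Ideal.mem_span_singleton_self _)
  · rw [Ideal.span_le]
    intro a ha
    rw [Set.mem_singleton_iff] at ha
    rw [ha, SetLike.mem_coe, RingHom.mem_ker]
    exact ev0_uK K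

theorem span_uK_isMaximal : (Ideal.span {uK K}).IsMaximal := by
  rw [← ker_ev0]
  have hsurj : Function.Surjective (ev0 K) := fun r => ⟨rhoK K r, ev0_rho K r⟩
  have hf : IsField (Γ(𝔸(PUnit.{u+1}; Spec (CommRingCat.of K)), ⊤) ⧸ RingHom.ker (ev0 K)) :=
    MulEquiv.isField (isField_ΓSK K) (RingHom.quotientKerEquivOfSurjective hsurj).toMulEquiv
  exact Ideal.Quotient.maximal_of_isField _ hf

theorem exists_origin : ∃ o : 𝔸(PUnit.{u+1}; Spec (CommRingCat.of K)),
    ((isAffineOpen_top 𝔸(PUnit.{u+1}; Spec (CommRingCat.of K))).primeIdealOf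
      ⟨o, trivial⟩).asIdeal = Ideal.span {uK K} := by
  haveI := (span_uK_isMaximal K).isPrime
  obtain ⟨o, ho, h⟩ := exists_primeIdealOf_eq
    (isAffineOpen_top 𝔸(PUnit.{u+1}; Spec (CommRingCat.of K)))
    ⟨Ideal.span {uK K}, inferInstance⟩
  exact ⟨o, congrArg PrimeSpectrum.asIdeal h⟩

/-- the origin of the affine line -/
noncomputable def origin : 𝔸(PUnit.{u+1}; Spec (CommRingCat.of K)) := (exists_origin K).choose

theorem primeIdealOf_origin :
    ((isAffineOpen_top 𝔸(PUnit.{u+1}; Spec (CommRingCat.of K))).primeIdealOf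
      ⟨origin K, trivial⟩).asIdeal = Ideal.span {uK K} := (exists_origin K).choose_spec

theorem eq_origin_of_mem (y : 𝔸(PUnit.{u+1}; Spec (CommRingCat.of K)))
    (hy : uK K ∈ ((isAffineOpen_top 𝔸(PUnit.{u+1}; Spec (CommRingCat.of K))).primeIdealOf
      ⟨y, trivial⟩).asIdeal) : y = origin K := by
  have h1 : Ideal.span {uK K} ≤
      ((isAffineOpen_top 𝔸(PUnit.{u+1}; Spec (CommRingCat.of K))).primeIdealOf
        ⟨y, trivial⟩).asIdeal := (Ideal.span_singleton_le_iff_mem _).mpr hy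
  have h2 := (span_uK_isMaximal K).eq_of_le
    ((isAffineOpen_top 𝔸(PUnit.{u+1}; Spec (CommRingCat.of K))).primeIdealOf
      ⟨y, trivial⟩).isPrime.ne_top h1
  have h3 : (isAffineOpen_top 𝔸(PUnit.{u+1}; Spec (CommRingCat.of K))).primeIdealOf
      ⟨y, trivial⟩ = (isAffineOpen_top 𝔸(PUnit.{u+1}; Spec (CommRingCat.of K))).primeIdealOf
      ⟨origin K, trivial⟩ := PrimeSpectrum.ext (h2.symm.trans (primeIdealOf_origin K).symm)
  exact congrArg Subtype.val (primeIdealOf_injective _ h3)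

theorem residueDegree_origin :
    (𝔸(PUnit.{u+1}; Spec (CommRingCat.of K)) ↘ Spec (CommRingCat.of K)).residueDegree
      (origin K) = 1 := by
  letI alg : Algebra Γ(Spec (CommRingCat.of K), ⊤)
    Γ(𝔸(PUnit.{u+1}; Spec (CommRingCat.of K)), ⊤) := (rhoK K).toAlgebra
  have e : (⊤ : (𝔸(PUnit.{u+1}; Spec (CommRingCat.of K))).Opens) ≤
      (𝔸(PUnit.{u+1}; Spec (CommRingCat.of K)) ↘ Spec (CommRingCat.of K)) ⁻¹ᵁ ⊤ :=
    fun _ _ => trivial
  have halg : algebraMap Γ(Spec (CommRingCat.of K), ⊤)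
      Γ(𝔸(PUnit.{u+1}; Spec (CommRingCat.of K)), ⊤) =
      ((𝔸(PUnit.{u+1}; Spec (CommRingCat.of K)) ↘ Spec (CommRingCat.of K)).appLE ⊤ ⊤ e).hom := by
    rw [appLE_top_top]
    rfl
  have h1 := inertiaDeg_chart (𝔸(PUnit.{u+1}; Spec (CommRingCat.of K)) ↘ Spec (CommRingCat.of K))
    (isAffineOpen_top (Spec (CommRingCat.of K)))
    (isAffineOpen_top 𝔸(PUnit.{u+1}; Spec (CommRingCat.of K))) e (origin K) trivial halg
  rw [← h1]
  haveI hprime : ((isAffineOpen_top 𝔸(PUnit.{u+1}; Spec (CommRingCat.of K))).primeIdealOf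
      ⟨origin K, trivial⟩).asIdeal.IsPrime :=
    ((isAffineOpen_top 𝔸(PUnit.{u+1}; Spec (CommRingCat.of K))).primeIdealOf
      ⟨origin K, trivial⟩).isPrime
  haveI hpmax : (Ideal.comap (algebraMap Γ(Spec (CommRingCat.of K), ⊤)
      Γ(𝔸(PUnit.{u+1}; Spec (CommRingCat.of K)), ⊤))
      ((isAffineOpen_top 𝔸(PUnit.{u+1}; Spec (CommRingCat.of K))).primeIdealOf
        ⟨origin K, trivial⟩).asIdeal).IsMaximal :=
    isMaximal_of_isField_of_ne_top (isField_ΓSK K) _ (Ideal.comap_isPrime _ _).ne_top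
  exact inertiaDeg_eq_one (uK K) (genP_AK K) _ _ rfl
    (by rw [primeIdealOf_origin]; exact Ideal.mem_span_singleton_self _)

instance isLocallyNoetherian_AK :
    IsLocallyNoetherian 𝔸(PUnit.{u+1}; Spec (CommRingCat.of K)) :=
  LocallyOfFiniteType.isLocallyNoetherian
    (𝔸(PUnit.{u+1}; Spec (CommRingCat.of K)) ↘ Spec (CommRingCat.of K))

theorem imm_origin (ξ : 𝔸(PUnit.{u+1}; Spec (CommRingCat.of K)))
    (hξ : ξ = genericPoint 𝔸(PUnit.{u+1}; Spec (CommRingCat.of K)))
    (w : 𝔸(PUnit.{u+1}; Spec (CommRingCat.of K))) (h1 : ξ ⤳ w) (h2 : w ⤳ origin K) :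
    w = ξ ∨ w = origin K := by
  haveI : IsNoetherianRing Γ(𝔸(PUnit.{u+1}; Spec (CommRingCat.of K)), ⊤) :=
    IsLocallyNoetherian.component_noetherian
      ⟨⊤, isAffineOpen_top 𝔸(PUnit.{u+1}; Spec (CommRingCat.of K))⟩
  refine imm_points (isAffineOpen_top 𝔸(PUnit.{u+1}; Spec (CommRingCat.of K))) (origin K) trivial
    ?_ ξ hξ w h1 h2
  intro q' hq' hle
  haveI := hq'
  haveI hprime : ((isAffineOpen_top 𝔸(PUnit.{u+1}; Spec (CommRingCat.of K))).primeIdealOf
      ⟨origin K, trivial⟩).asIdeal.IsPrime :=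
    ((isAffineOpen_top 𝔸(PUnit.{u+1}; Spec (CommRingCat.of K))).primeIdealOf
      ⟨origin K, trivial⟩).isPrime
  refine imm_of_mem_minimalPrimes (uK K) _ ?_ q' hle
  refine ⟨⟨hprime, le_of_eq (primeIdealOf_origin K).symm⟩, ?_⟩
  rintro q'' ⟨_, hq''⟩ _
  rw [primeIdealOf_origin]
  exact hq''

theorem origin_ne_generic :
    origin K ≠ genericPoint 𝔸(PUnit.{u+1}; Spec (CommRingCat.of K)) := by
  intro h
  have h1 := primeIdealOf_eq_bot_of_generic
    (isAffineOpen_top 𝔸(PUnit.{u+1}; Spec (CommRingCat.of K))) (origin K) h trivial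
  rw [primeIdealOf_origin, Ideal.span_singleton_eq_bot] at h1
  exact uK_ne_zero K h1

theorem ordAt_origin (ξ : 𝔸(PUnit.{u+1}; Spec (CommRingCat.of K)))
    (hξ : ξ = genericPoint 𝔸(PUnit.{u+1}; Spec (CommRingCat.of K))) (h : ξ ⤳ origin K) :
    Cyc.ordAt (origin K) ξ h
      ((𝔸(PUnit.{u+1}; Spec (CommRingCat.of K)).residue ξ).hom
        ((𝔸(PUnit.{u+1}; Spec (CommRingCat.of K)).presheaf.germ ⊤ ξ trivial).hom (uK K))) = 1 := by
  have himm := imm_origin K ξ hξ
  haveI hprime : ((isAffineOpen_top 𝔸(PUnit.{u+1}; Spec (CommRingCat.of K))).primeIdealOf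
      ⟨origin K, trivial⟩).asIdeal.IsPrime :=
    ((isAffineOpen_top 𝔸(PUnit.{u+1}; Spec (CommRingCat.of K))).primeIdealOf
      ⟨origin K, trivial⟩).isPrime
  have h1 := ordAt_section (isAffineOpen_top 𝔸(PUnit.{u+1}; Spec (CommRingCat.of K))) (origin K) ξ
    trivial h hξ himm (uK K) (uK_ne_zero K)
  have h2 := length_loc_quot_span_eq_one (uK K) _ (primeIdealOf_origin K)
  rw [h2] at h1
  rw [h1]
  rfl

end Line

end Groth.Agent.Helper7.PDeg
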