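import Mathlib
import Groth.Prelude.Def_Cyc
import Groth.Agent.Lib.Helper7.PDeg.Line
import Groth.Agent.Lib.Helper7.PDeg.Alg
import Groth.Agent.Lib.Helper7.FinPush.Main

set_option linter.style.haveILetI false
set_option linter.unusedVariables false
set_option linter.unusedSectionVars false
set_option autoImplicit false
set_option backward.isDefEq.respectTransparency.types false
set_option synthInstance.maxHeartbeats 400000
set_option maxHeartbeats 1600000

namespace Groth.Agent.Helper7.PDeg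

open CategoryTheory CategoryTheory.Limits AlgebraicGeometry TopologicalSpace Opposite IsLocalRing
open AlgebraicGeometry.AffineSpace
open Groth.Agent.Helper7.DivFin Groth.Agent.Helper7.FinDeg Groth.Agent.Helper7.FinPush
open Groth.Agent.Helper7.KL

universe u

/-! helper7: helper7: the fibre over the origin of the closure of the graph of a rational function on a curve: closed points, orders, residue degrees, finiteness -/

section Dim

variable {X : Scheme.{u}}

theorem ringKrullDim_sections_le (hdim : topologicalKrullDim X ≤ 1) {W : X.Opens}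
    (hW : IsAffineOpen W) : ringKrullDim Γ(X, W) ≤ 1 := by
  have h1 : topologicalKrullDim (PrimeSpectrum Γ(X, W)) ≤ topologicalKrullDim X :=
    hW.fromSpec.isOpenEmbedding.isInducing.topologicalKrullDim_le
  rw [PrimeSpectrum.topologicalKrullDim_eq_ringKrullDim] at h1
  exact h1.trans hdim

theorem krullDimLE_sections (hdim : topologicalKrullDim X ≤ 1) {W : X.Opens}
    (hW : IsAffineOpen W) : Ring.KrullDimLE 1 Γ(X, W) := by
  rw [Ring.krullDimLE_iff, Nat.cast_one]
  exact ringKrullDim_sections_le hdim hW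

theorem krullDimLE_stalk (hdim : topologicalKrullDim X ≤ 1) (x : X) :
    Ring.KrullDimLE 1 (X.presheaf.stalk x) := by
  obtain ⟨W, hW, hx⟩ := exists_affine x
  letI := X.presheaf.algebra_section_stalk (U := W) ⟨x, hx⟩
  haveI := hW.isLocalization_stalk ⟨x, hx⟩
  have h1 := IsLocalization.AtPrime.ringKrullDim_eq_height (hW.primeIdealOf ⟨x, hx⟩).asIdeal
    (X.presheaf.stalk x)
  have h2 : ((hW.primeIdealOf ⟨x, hx⟩).asIdeal.height : WithBot ℕ∞) ≤ ringKrullDim Γ(X, W) :=
    Ideal.height_le_ringKrullDim_of_ne_top (hW.primeIdealOf ⟨x, hx⟩).isPrime.ne_top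
  rw [Ring.krullDimLE_iff, Nat.cast_one, h1]
  exact h2.trans (ringKrullDim_sections_le hdim hW)

theorem isClosed_of_ne_generic [IsIntegral X] (hdim : topologicalKrullDim X ≤ 1) (x : X)
    (hx : x ≠ genericPoint X) : IsClosed ({x} : Set X) := by
  rw [← closure_subset_iff_isClosed]
  intro x' hx'
  have hsp : x ⤳ x' := specializes_iff_mem_closure.mpr hx'
  obtain ⟨W, hW, hx'W⟩ := exists_affine x'
  have hxW : x ∈ W := hsp.mem_open W.isOpen hx'W
  haveI : Nonempty W := ⟨⟨x, hxW⟩⟩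
  haveI := krullDimLE_sections hdim hW
  have hle := (primeIdealOf_le_iff hW ⟨x, hxW⟩ ⟨x', hx'W⟩).mpr hsp
  have hne : (hW.primeIdealOf ⟨x, hxW⟩).asIdeal ≠ ⊥ := by
    intro h0
    apply hx
    have hηW : genericPoint X ∈ W := genericPoint_mem W
    have h3 := primeIdealOf_eq_bot_of_generic hW (genericPoint X) rfl hηW
    have h4 : hW.primeIdealOf ⟨x, hxW⟩ = hW.primeIdealOf ⟨genericPoint X, hηW⟩ :=
      PrimeSpectrum.ext (h0.trans h3.symm)
    exact congrArg Subtype.val (primeIdealOf_injective hW h4)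
  have hmax : (hW.primeIdealOf ⟨x, hxW⟩).asIdeal.IsMaximal :=
    (hW.primeIdealOf ⟨x, hxW⟩).isPrime.isMaximal_of_ne_bot hne
  have heq := hmax.eq_of_le (hW.primeIdealOf ⟨x', hx'W⟩).isPrime.ne_top hle
  have h4 : hW.primeIdealOf ⟨x, hxW⟩ = hW.primeIdealOf ⟨x', hx'W⟩ := PrimeSpectrum.ext heq
  have h5 : x = x' := congrArg Subtype.val (primeIdealOf_injective hW h4)
  exact Set.mem_singleton_iff.mpr h5.symm

theorem residueDegree_comp' {X Y Z : Scheme.{u}} (f : X ⟶ Y) (g : Y ⟶ Z) (x : X) :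
    (f ≫ g).residueDegree x = g.residueDegree (f x) * f.residueDegree x := by
  letI a1 : Algebra (Z.residueField (g (f x))) (Y.residueField (f x)) :=
    (g.residueFieldMap (f x)).hom.toAlgebra
  letI a2 : Algebra (Y.residueField (f x)) (X.residueField x) :=
    (f.residueFieldMap x).hom.toAlgebra
  letI a3 : Algebra (Z.residueField (g (f x))) (X.residueField x) :=
    ((f ≫ g).residueFieldMap x).hom.toAlgebra
  haveI : IsScalarTower (Z.residueField (g (f x))) (Y.residueField (f x)) (X.residueField x) := by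
    apply IsScalarTower.of_algebraMap_eq
    intro a
    change ((f ≫ g).residueFieldMap x).hom a =
      (f.residueFieldMap x).hom ((g.residueFieldMap (f x)).hom a)
    rw [Scheme.residueFieldMap_comp]
    rfl
  exact (Module.finrank_mul_finrank (Z.residueField (g (f x))) (Y.residueField (f x))
    (X.residueField x)).symm

end Dim

section ChartZ

variable {X : Scheme.{u}} [IsIntegral X] (g : X.functionField)

theorem genericPoint_mem_VZ (W : X.Opens) [Nonempty W] : genericPoint (ZZ g) ∈ VZ g W := by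
  rw [← tZ_ptT g]
  show piZ g (tZ g (ptT X)) ∈ W
  rw [← Scheme.Hom.comp_apply, tZ_piZ, fromSpecStalk_ptT]
  exact genericPoint_mem W

instance nonempty_VZ (W : X.Opens) [Nonempty W] : Nonempty (VZ g W) :=
  ⟨⟨genericPoint (ZZ g), genericPoint_mem_VZ g W⟩⟩

/-- the algebra structure of a chart of the closure of the graph over a chart of `X` -/
@[instance_reducible]
noncomputable def algRB (W : X.Opens) : Algebra Γ(X, W) Γ(ZZ g, VZ g W) :=
  ((piZ g).app W).hom.toAlgebra

/-- the function field of `X` as an algebra over a chart of the closure of the graph -/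
@[instance_reducible]
noncomputable def algBL (W : X.Opens) [Nonempty W] :
    Algebra Γ(ZZ g, VZ g W) X.functionField :=
  (epsZ g W).toAlgebra

attribute [local instance] algRB algBL

theorem tower_chart (W : X.Opens) [Nonempty W] :
    IsScalarTower Γ(X, W) Γ(ZZ g, VZ g W) X.functionField :=
  IsScalarTower.of_algebraMap_eq fun r => (epsZ_piZ_app g W r).symm

attribute [local instance] tower_chart

theorem hgen_chart {W : X.Opens} (hW : IsAffineOpen W) (b : Γ(ZZ g, VZ g W)) :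
    ∃ P : Polynomial Γ(X, W), b = Polynomial.aeval (uOn g (VZ g W)) P := by
  obtain ⟨P, hP⟩ := gen_ZZ g hW b
  exact ⟨P, by rw [Polynomial.aeval_def]; exact hP⟩

theorem hBL_chart {W : X.Opens} (hW : IsAffineOpen W) [Nonempty W] :
    Function.Injective (algebraMap Γ(ZZ g, VZ g W) X.functionField) :=
  epsZ_injective g hW

theorem algebraMap_uOn (W : X.Opens) [Nonempty W] :
    algebraMap Γ(ZZ g, VZ g W) X.functionField (uOn g (VZ g W)) = g :=
  epsZ_uOn g W

theorem uOn_ne_zero (hg : g ≠ 0) (W : X.Opens) [Nonempty W] : uOn g (VZ g W) ≠ 0 := by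
  intro h0
  apply hg
  rw [← epsZ_uOn g W, h0, map_zero]

theorem comap_chart {W : X.Opens} (hW : IsAffineOpen W) (z : ZZ g) (hz : z ∈ VZ g W) :
    ((isAffineOpen_VZ g hW).primeIdealOf ⟨z, hz⟩).asIdeal.comap
        (algebraMap Γ(X, W) Γ(ZZ g, VZ g W)) =
      (hW.primeIdealOf ⟨piZ g z, hz⟩).asIdeal := by
  have h1 := IsAffineOpen.comap_primeIdealOf_appLE (f := piZ g) (x := z) W hW (VZ g W)
    (isAffineOpen_VZ g hW) le_rfl hz
  have h2 : Ideal.comap ((piZ g).appLE W (VZ g W) le_rfl).hom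
      ((isAffineOpen_VZ g hW).primeIdealOf ⟨z, hz⟩).asIdeal =
      (hW.primeIdealOf ⟨piZ g z, hz⟩).asIdeal := congrArg PrimeSpectrum.asIdeal h1
  have h3 : (piZ g).appLE W (VZ g W) le_rfl = (piZ g).app W := Scheme.Hom.appLE_eq_app _
  rw [h3] at h2
  exact h2

variable {K : Type u} [Field K] (c : X ⟶ Spec (CommRingCat.of K))

/-- the map from the closure of the graph to the affine line over the base field -/
noncomputable def phiZ : ZZ g ⟶ 𝔸(PUnit.{u+1}; Spec (CommRingCat.of K)) :=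
  iZ g ≫ AffineSpace.map PUnit.{u+1} c

instance isProper_map [IsProper c] : IsProper (AffineSpace.map PUnit.{u+1} c) :=
  MorphismProperty.of_isPullback (P := @IsProper) (isPullback_map c).flip inferInstance

instance isProper_phiZ [IsProper c] : IsProper (phiZ g c) := by
  unfold phiZ
  infer_instance

theorem phiZ_over :
    phiZ g c ≫ (𝔸(PUnit.{u+1}; Spec (CommRingCat.of K)) ↘ Spec (CommRingCat.of K)) =
      piZ g ≫ c := by
  unfold phiZ piZ
  rw [Category.assoc, map_over, Category.assoc]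

theorem phiZ_appTop_uK : (phiZ g c).appTop.hom (uK K) = uZ g := by
  have h1 : (AffineSpace.map PUnit.{u+1} c).appTop.hom (uK K) =
      AffineSpace.coord X PUnit.unit := map_appTop_coord c PUnit.unit
  unfold phiZ uZ
  rw [Scheme.Hom.comp_appTop, CommRingCat.hom_comp, RingHom.comp_apply, h1]

theorem phiZ_appLE_uK {V : (ZZ g).Opens} (e : V ≤ (phiZ g c) ⁻¹ᵁ ⊤) :
    ((phiZ g c).appLE ⊤ V e).hom (uK K) = uOn g V := by
  rw [Scheme.Hom.appLE, CommRingCat.hom_comp, RingHom.comp_apply]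
  have h3 : ((phiZ g c).app ⊤).hom (uK K) = uZ g := phiZ_appTop_uK g c
  rw [h3]
  rfl

theorem phiZ_eq_origin_iff {V : (ZZ g).Opens} (hV : IsAffineOpen V) (z : ZZ g) (hz : z ∈ V) :
    phiZ g c z = origin K ↔ uOn g V ∈ (hV.primeIdealOf ⟨z, hz⟩).asIdeal := by
  have e : V ≤ (phiZ g c) ⁻¹ᵁ ⊤ := fun _ _ => trivial
  have h1 := IsAffineOpen.comap_primeIdealOf_appLE (f := phiZ g c) (x := z) ⊤
    (isAffineOpen_top _) V hV e hz
  have h5 : Ideal.comap ((phiZ g c).appLE ⊤ V e).hom (hV.primeIdealOf ⟨z, hz⟩).asIdeal =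
      ((isAffineOpen_top 𝔸(PUnit.{u+1}; Spec (CommRingCat.of K))).primeIdealOf
        ⟨phiZ g c z, trivial⟩).asIdeal := congrArg PrimeSpectrum.asIdeal h1
  have h4 : uK K ∈ ((isAffineOpen_top 𝔸(PUnit.{u+1}; Spec (CommRingCat.of K))).primeIdealOf
      ⟨phiZ g c z, trivial⟩).asIdeal ↔ uOn g V ∈ (hV.primeIdealOf ⟨z, hz⟩).asIdeal := by
    rw [← phiZ_appLE_uK g c e, ← h5]
    exact Ideal.mem_comap
  constructor
  · intro h
    rw [← h4]
    have key : ∀ y : 𝔸(PUnit.{u+1}; Spec (CommRingCat.of K)), y = origin K →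
        uK K ∈ ((isAffineOpen_top 𝔸(PUnit.{u+1}; Spec (CommRingCat.of K))).primeIdealOf
          ⟨y, trivial⟩).asIdeal := by
      intro y hy
      subst hy
      rw [primeIdealOf_origin]
      exact Ideal.mem_span_singleton_self _
    exact key _ h
  · intro h
    exact eq_origin_of_mem K _ (h4.mpr h)

theorem piZ_ne_generic (hg : g ≠ 0) (z : ZZ g) (hz : phiZ g c z = origin K) :
    piZ g z ≠ genericPoint X := by
  intro hgen
  obtain ⟨W, hW, hxW⟩ := exists_affine (piZ g z)
  haveI : Nonempty W := ⟨⟨_, hxW⟩⟩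
  have hzV : z ∈ VZ g W := hxW
  have ht : uOn g (VZ g W) ∈ ((isAffineOpen_VZ g hW).primeIdealOf ⟨z, hzV⟩).asIdeal :=
    (phiZ_eq_origin_iff g c (isAffineOpen_VZ g hW) z hzV).mp hz
  have hq := comap_chart g hW z hzV
  rw [primeIdealOf_eq_bot_of_generic hW (piZ g z) hgen hxW] at hq
  haveI := functionField_isFractionRing_of_isAffineOpen X W hW
  have hq0 := eq_bot_of_comap_eq_bot (L := X.functionField) (hBL_chart g hW) _ hq
  rw [hq0, Ideal.mem_bot] at ht
  exact uOn_ne_zero g hg W ht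

theorem piZ_isClosed (hdim : topologicalKrullDim X ≤ 1) (hg : g ≠ 0) (z : ZZ g)
    (hz : phiZ g c z = origin K) : IsClosed ({piZ g z} : Set X) :=
  isClosed_of_ne_generic hdim _ (piZ_ne_generic g c hg z hz)

theorem fibre_inj (z z' : ZZ g) (hz : phiZ g c z = origin K) (hz' : phiZ g c z' = origin K)
    (h : piZ g z = piZ g z') : z = z' := by
  obtain ⟨W, hW, hxW⟩ := exists_affine (piZ g z)
  haveI : Nonempty W := ⟨⟨_, hxW⟩⟩
  have hzV : z ∈ VZ g W := hxW
  have hzV' : z' ∈ VZ g W := by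
    show piZ g z' ∈ W
    rw [← h]
    exact hxW
  have ht := (phiZ_eq_origin_iff g c (isAffineOpen_VZ g hW) z hzV).mp hz
  have ht' := (phiZ_eq_origin_iff g c (isAffineOpen_VZ g hW) z' hzV').mp hz'
  have hq := comap_chart g hW z hzV
  have hq' := comap_chart g hW z' hzV'
  have e : (⟨piZ g z, hzV⟩ : W) = ⟨piZ g z', hzV'⟩ := Subtype.ext h
  rw [e] at hq
  have hqq := prime_unique (uOn g (VZ g W)) (hgen_chart g hW) _ _ (hq.trans hq'.symm) ht ht'
  have h4 : (isAffineOpen_VZ g hW).primeIdealOf ⟨z, hzV⟩ =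
      (isAffineOpen_VZ g hW).primeIdealOf ⟨z', hzV'⟩ := PrimeSpectrum.ext hqq
  exact congrArg Subtype.val (primeIdealOf_injective _ h4)

theorem fibre_imm [IsLocallyNoetherian X] (hdim : topologicalKrullDim X ≤ 1) (hg : g ≠ 0)
    (z : ZZ g) (hz : phiZ g c z = origin K) (w : ZZ g) (h1 : genericPoint (ZZ g) ⤳ w)
    (h2 : w ⤳ z) : w = genericPoint (ZZ g) ∨ w = z := by
  obtain ⟨W, hW, hxW⟩ := exists_affine (piZ g z)
  haveI : Nonempty W := ⟨⟨_, hxW⟩⟩
  have hzV : z ∈ VZ g W := hxW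
  have ht := (phiZ_eq_origin_iff g c (isAffineOpen_VZ g hW) z hzV).mp hz
  haveI := functionField_isFractionRing_of_isAffineOpen X W hW
  haveI := krullDimLE_sections hdim hW
  haveI : IsNoetherianRing Γ(ZZ g, VZ g W) :=
    IsLocallyNoetherian.component_noetherian ⟨VZ g W, isAffineOpen_VZ g hW⟩
  refine imm_points (isAffineOpen_VZ g hW) z hzV ?_ (genericPoint (ZZ g)) rfl w h1 h2
  intro q' hq' hle
  haveI := hq'
  exact prime_imm (L := X.functionField) (hBL_chart g hW) (uOn g (VZ g W)) (hgen_chart g hW)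
    (uOn_ne_zero g hg W) _ ht q' hle

theorem fibre_ordAt [IsLocallyNoetherian X] (hdim : topologicalKrullDim X ≤ 1) (hg : g ≠ 0)
    (z : ZZ g) (hz : phiZ g c z = origin K) (h : genericPoint (ZZ g) ⤳ z) :
    Cyc.ordAt z (genericPoint (ZZ g)) h
      (((ZZ g).residue (genericPoint (ZZ g))).hom
        (((ZZ g).presheaf.germ ⊤ (genericPoint (ZZ g)) trivial).hom (uZ g))) =
    ((Module.length (X.presheaf.stalk (piZ g z))
      (X.presheaf.stalk (piZ g z) ⧸ I0 (X.presheaf.stalk (piZ g z)) g)).toNat : ℤ) := by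
  obtain ⟨W, hW, hxW⟩ := exists_affine (piZ g z)
  haveI : Nonempty W := ⟨⟨_, hxW⟩⟩
  have hzV : z ∈ VZ g W := hxW
  have ht := (phiZ_eq_origin_iff g c (isAffineOpen_VZ g hW) z hzV).mp hz
  have himm := fibre_imm g c hdim hg z hz
  have h1 := ordAt_section (isAffineOpen_VZ g hW) z (genericPoint (ZZ g)) hzV h rfl himm
    (uOn g (VZ g W)) (uOn_ne_zero g hg W)
  have hgerm : ((ZZ g).presheaf.germ (VZ g W) (genericPoint (ZZ g))
      (h.mem_open (VZ g W).isOpen hzV)).hom (uOn g (VZ g W)) =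
      ((ZZ g).presheaf.germ ⊤ (genericPoint (ZZ g)) trivial).hom (uZ g) :=
    TopCat.Presheaf.germ_res_apply (ZZ g).presheaf (homOfLE le_top) _ _ (uZ g)
  rw [hgerm] at h1
  rw [h1]
  letI := X.presheaf.algebra_section_stalk (U := W) ⟨piZ g z, hxW⟩
  haveI := hW.isLocalization_stalk ⟨piZ g z, hxW⟩
  haveI := functionField_isScalarTower X W ⟨piZ g z, hxW⟩
  have h2 := length_chart (X.presheaf.stalk (piZ g z)) (hBL_chart g hW) (uOn g (VZ g W))
    (hgen_chart g hW) (hW.primeIdealOf ⟨piZ g z, hxW⟩).asIdeal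
    ((isAffineOpen_VZ g hW).primeIdealOf ⟨z, hzV⟩).asIdeal (comap_chart g hW z hzV) ht
  rw [h2, algebraMap_uOn]

theorem piZ_residueDegree (hdim : topologicalKrullDim X ≤ 1) (hg : g ≠ 0) (z : ZZ g)
    (hz : phiZ g c z = origin K) : (piZ g).residueDegree z = 1 := by
  obtain ⟨W, hW, hxW⟩ := exists_affine (piZ g z)
  haveI : Nonempty W := ⟨⟨_, hxW⟩⟩
  have hzV : z ∈ VZ g W := hxW
  have ht := (phiZ_eq_origin_iff g c (isAffineOpen_VZ g hW) z hzV).mp hz
  have hcl : IsClosed ({piZ g z} : Set X) := piZ_isClosed g c hdim hg z hz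
  haveI hmax : (hW.primeIdealOf ⟨piZ g z, hxW⟩).asIdeal.IsMaximal :=
    hW.primeIdealOf_isMaximal_of_isClosed ⟨piZ g z, hxW⟩ hcl
  have halg : algebraMap Γ(X, W) Γ(ZZ g, VZ g W) =
      ((piZ g).appLE W (VZ g W) le_rfl).hom := by
    rw [Scheme.Hom.appLE_eq_app]
    rfl
  have h1 := inertiaDeg_chart (piZ g) hW (isAffineOpen_VZ g hW) le_rfl z hzV halg
  rw [← h1]
  exact inertiaDeg_eq_one (uOn g (VZ g W)) (hgen_chart g hW) _ _ (comap_chart g hW z hzV) ht

theorem fibre_deg (hdim : topologicalKrullDim X ≤ 1) (hg : g ≠ 0) (z : ZZ g)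
    (hz : phiZ g c z = origin K) :
    (phiZ g c).residueDegree z = c.residueDegree (piZ g z) := by
  have h1 := residueDegree_comp' (piZ g) c z
  have h2 := residueDegree_comp' (phiZ g c)
    (𝔸(PUnit.{u+1}; Spec (CommRingCat.of K)) ↘ Spec (CommRingCat.of K)) z
  rw [phiZ_over] at h2
  rw [h1, piZ_residueDegree g c hdim hg z hz, mul_one] at h2
  have h3 : (𝔸(PUnit.{u+1}; Spec (CommRingCat.of K)) ↘
      Spec (CommRingCat.of K)).residueDegree (phiZ g c z) = 1 := by
    rw [hz]
    exact residueDegree_origin K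
  rw [h3, one_mul] at h2
  exact h2.symm

theorem fibre_surj (x : X) (hcl : IsClosed ({x} : Set X))
    (hI : I0 (X.presheaf.stalk x) g ≠ ⊤) :
    ∃ z : ZZ g, phiZ g c z = origin K ∧ piZ g z = x := by
  obtain ⟨W, hW, hxW⟩ := exists_affine x
  haveI : Nonempty W := ⟨⟨_, hxW⟩⟩
  haveI hmax : (hW.primeIdealOf ⟨x, hxW⟩).asIdeal.IsMaximal :=
    hW.primeIdealOf_isMaximal_of_isClosed ⟨x, hxW⟩ hcl
  letI := X.presheaf.algebra_section_stalk (U := W) ⟨x, hxW⟩
  haveI := hW.isLocalization_stalk ⟨x, hxW⟩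
  haveI := functionField_isScalarTower X W ⟨x, hxW⟩
  have hI' : I0 (X.presheaf.stalk x)
      (algebraMap Γ(ZZ g, VZ g W) X.functionField (uOn g (VZ g W))) ≠ ⊤ := by
    rw [algebraMap_uOn]
    exact hI
  obtain ⟨q, hqp, hq, ht⟩ := exists_prime_of_I0_ne_top (L := X.functionField)
    (X.presheaf.stalk x) (uOn g (VZ g W)) (hgen_chart g hW)
    (hW.primeIdealOf ⟨x, hxW⟩).asIdeal hI'
  obtain ⟨z, hzV, hzq⟩ := exists_primeIdealOf_eq (isAffineOpen_VZ g hW) ⟨q, hqp⟩
  have hzq' : ((isAffineOpen_VZ g hW).primeIdealOf ⟨z, hzV⟩).asIdeal = q :=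
    congrArg PrimeSpectrum.asIdeal hzq
  refine ⟨z, ?_, ?_⟩
  · rw [phiZ_eq_origin_iff g c (isAffineOpen_VZ g hW) z hzV, hzq']
    exact ht
  · have h1 := comap_chart g hW z hzV
    rw [hzq', hq] at h1
    have h4 : hW.primeIdealOf ⟨x, hxW⟩ = hW.primeIdealOf ⟨piZ g z, hzV⟩ :=
      PrimeSpectrum.ext h1
    exact (congrArg Subtype.val (primeIdealOf_injective hW h4)).symm

theorem fibre_finite [IsProper c] (hdim : topologicalKrullDim X ≤ 1) (hg : g ≠ 0) :
    ((phiZ g c) ⁻¹' {origin K}).Finite := by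
  haveI : IsLocallyNoetherian X := LocallyOfFiniteType.isLocallyNoetherian c
  refine finite_fibre_of_no_spec (phiZ g c) (origin K) ?_
  intro z z' hz hz' hsp
  have h1 : piZ g z ⤳ piZ g z' := hsp.map (piZ g).continuous
  have hcl := piZ_isClosed g c hdim hg z hz
  have h2 : piZ g z' ∈ closure ({piZ g z} : Set X) := specializes_iff_mem_closure.mp h1
  rw [hcl.closure_eq, Set.mem_singleton_iff] at h2
  exact fibre_inj g c z z' hz hz' h2.symm

end ChartZ

end Groth.Agent.Helper7.PDeg
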