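import Mathlib
import Groth.Prelude.Def_Cyc
import Groth.Agent.Lib.Helper7.PDeg.Points

set_option linter.style.haveILetI false
set_option linter.unusedVariables false
set_option linter.unusedSectionVars false
set_option autoImplicit false
set_option backward.isDefEq.respectTransparency.types false
set_option synthInstance.maxHeartbeats 400000
set_option maxHeartbeats 1600000

namespace Groth.Agent.Helper7.PDeg

open CategoryTheory CategoryTheory.Limits AlgebraicGeometry TopologicalSpace Opposite IsLocalRing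
open AlgebraicGeometry.AffineSpace
open Groth.Agent.Helper7.DivFin Groth.Agent.Helper7.FinDeg Groth.Agent.Helper7.FinPush
open Groth.Agent.Helper7.KL

universe u

/-! helper7: helper7: the weighted count of the zeros of a rational function on a proper curve equals the degree of the closure of its graph over the affine line -/

section Count

variable {X : Scheme.{u}} [IsIntegral X] (g : X.functionField) {K : Type u} [Field K]
  (c : X ⟶ Spec (CommRingCat.of K))

/-- the local term of the count of zeros of a rational function -/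
noncomputable def nZ (x : X) : ℤ :=
  ((Module.length (X.presheaf.stalk x)
    (X.presheaf.stalk x ⧸ I0 (X.presheaf.stalk x) g)).toNat : ℤ)

theorem nZ_eq_zero_of_top (x : X) (h : I0 (X.presheaf.stalk x) g = ⊤) : nZ g x = 0 := by
  unfold nZ
  rw [length_quot_congr h]
  haveI : Subsingleton (X.presheaf.stalk x ⧸ (⊤ : Ideal (X.presheaf.stalk x))) :=
    Ideal.Quotient.subsingleton_iff.mpr rfl
  rw [Module.length_eq_zero]
  rfl

/-- the coordinate function at the generic point of the closure of the graph -/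
noncomputable def fZ : (ZZ g).residueField (genericPoint (ZZ g)) :=
  ((ZZ g).residue (genericPoint (ZZ g))).hom
    (((ZZ g).presheaf.germ ⊤ (genericPoint (ZZ g)) trivial).hom (uZ g))

/-- the coordinate function at the image of the generic point in the affine line -/
noncomputable def uGen :
    (𝔸(PUnit.{u+1}; Spec (CommRingCat.of K))).residueField (phiZ g c (genericPoint (ZZ g))) :=
  ((𝔸(PUnit.{u+1}; Spec (CommRingCat.of K))).residue (phiZ g c (genericPoint (ZZ g)))).hom
    (((𝔸(PUnit.{u+1}; Spec (CommRingCat.of K))).presheaf.germ ⊤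
      (phiZ g c (genericPoint (ZZ g))) trivial).hom (uK K))

theorem uZ_ne_zero (hg : g ≠ 0) : uZ g ≠ 0 := by
  intro h0
  obtain ⟨W, hW, hxW⟩ := exists_affine (genericPoint X)
  haveI : Nonempty W := ⟨⟨_, hxW⟩⟩
  apply uOn_ne_zero g hg W
  unfold uOn
  rw [h0, map_zero]

theorem fZ_ne_zero (hg : g ≠ 0) : fZ g ≠ 0 := by
  intro h0
  apply uZ_ne_zero g hg
  have h00 : ((ZZ g).residue (genericPoint (ZZ g))).hom
      (((ZZ g).presheaf.germ ⊤ (genericPoint (ZZ g)) trivial).hom (0 : Γ(ZZ g, ⊤))) = 0 := by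
    rw [map_zero, map_zero]
  exact sec_injective (U := (⊤ : (ZZ g).Opens)) (genericPoint (ZZ g)) rfl trivial (h0.trans h00.symm)

theorem fZ_eq : fZ g =
    ((phiZ g c).residueFieldMap (genericPoint (ZZ g))).hom (uGen g c) := by
  have h1 : ((phiZ g c).residueFieldMap (genericPoint (ZZ g))).hom
      (((𝔸(PUnit.{u+1}; Spec (CommRingCat.of K))).Γevaluation
        (phiZ g c (genericPoint (ZZ g)))).hom (uK K)) =
      ((ZZ g).Γevaluation (genericPoint (ZZ g))).hom ((phiZ g c).appTop.hom (uK K)) :=
    Scheme.Γevaluation_naturality_apply (phiZ g c) (genericPoint (ZZ g)) (uK K)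
  rw [phiZ_appTop_uK g c] at h1
  exact h1.symm

theorem uGen_ne_zero (hg : g ≠ 0) : uGen g c ≠ 0 := by
  intro h0
  apply fZ_ne_zero g hg
  rw [fZ_eq g c, h0, map_zero]

theorem normGen_fZ : Cyc.normGen (phiZ g c) (genericPoint (ZZ g)) (fZ g) =
    (uGen g c) ^ ((phiZ g c).residueDegree (genericPoint (ZZ g))) := by
  rw [fZ_eq g c]
  unfold Cyc.normGen Scheme.Hom.residueDegree
  letI := ((phiZ g c).residueFieldMap (genericPoint (ZZ g))).hom.toAlgebra
  exact Algebra.norm_algebraMap (uGen g c)

theorem mem_image_of_support (x : X) (hcl : IsClosed ({x} : Set X))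
    (hx : (c.residueDegree x : ℤ) * nZ g x ≠ 0) :
    x ∈ (fun z : ZZ g => piZ g z) '' ((phiZ g c) ⁻¹' {origin K}) := by
  have hI : I0 (X.presheaf.stalk x) g ≠ ⊤ := by
    intro hI
    apply hx
    rw [nZ_eq_zero_of_top g x hI, mul_zero]
  obtain ⟨z, hz, hzx⟩ := fibre_surj g c x hcl hI
  exact ⟨z, hz, hzx⟩

theorem count_finite [IsProper c] (hdim : topologicalKrullDim X ≤ 1) (hg : g ≠ 0) :
    ({x : X | IsClosed ({x} : Set X)} ∩
      Function.support (fun x => (c.residueDegree x : ℤ) * nZ g x)).Finite := by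
  refine ((fibre_finite g c hdim hg).image (fun z : ZZ g => piZ g z)).subset ?_
  rintro x ⟨hcl, hx⟩
  exact mem_image_of_support g c x hcl (Function.mem_support.mp hx)

theorem count [IsProper c] (hdim : topologicalKrullDim X ≤ 1) (hg : g ≠ 0)
    (hdom : phiZ g c (genericPoint (ZZ g)) =
      genericPoint 𝔸(PUnit.{u+1}; Spec (CommRingCat.of K))) :
    ∑ᶠ x ∈ {x : X | IsClosed ({x} : Set X)}, (c.residueDegree x : ℤ) * nZ g x =
      ((phiZ g c).residueDegree (genericPoint (ZZ g)) : ℤ) := by
  classical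
  haveI : IsLocallyNoetherian X := LocallyOfFiniteType.isLocallyNoetherian c
  have hfinF := fibre_finite g c hdim hg
  obtain ⟨V, hV, hoV, hU, hfin⟩ := exists_finite_chart (phiZ g c) (origin K) hfinF
  have hsp : ∀ z : ZZ g, genericPoint (ZZ g) ⤳ z := genericPoint_specializes
  have h' : phiZ g c (genericPoint (ZZ g)) ⤳ origin K := by
    rw [hdom]
    exact genericPoint_specializes _
  have himmY := imm_origin K (phiZ g c (genericPoint (ZZ g))) hdom
  have himmX : ∀ z : ZZ g, phiZ g c z = origin K → ∀ w : ZZ g, genericPoint (ZZ g) ⤳ w →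
      w ⤳ z → w = genericPoint (ZZ g) ∨ w = z :=
    fun z hz => fibre_imm g c hdim hg z hz
  have hloc := local_formula (phiZ g c) hdom hV hU hfin (origin K) hoV hsp h' himmY himmX
    (fZ g) (fZ_ne_zero g hg)
  have hord1 : Cyc.ordAt (origin K) (phiZ g c (genericPoint (ZZ g))) h' (uGen g c) = 1 :=
    ordAt_origin K _ hdom h'
  rw [normGen_fZ, ordAt_pow _ _ h' (uGen_ne_zero g c hg), hord1, mul_one] at hloc
  rw [← hloc]
  have hpt : ∀ z ∈ (phiZ g c) ⁻¹' {origin K},
      (c.residueDegree (piZ g z) : ℤ) * nZ g (piZ g z) =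
      Cyc.ordAt z (genericPoint (ZZ g)) (hsp z) (fZ g) *
        ((phiZ g c).residueDegree z : ℤ) := by
    intro z hz
    have hz' : phiZ g c z = origin K := hz
    have h1 : Cyc.ordAt z (genericPoint (ZZ g)) (hsp z) (fZ g) = nZ g (piZ g z) :=
      fibre_ordAt g c hdim hg z hz' (hsp z)
    have h2 := fibre_deg g c hdim hg z hz'
    rw [h1, h2, mul_comm]
  have hinj : Set.InjOn (fun z : ZZ g => piZ g z) ((phiZ g c) ⁻¹' {origin K}) :=
    fun z hz z' hz' h => fibre_inj g c z z' hz hz' h
  calc ∑ᶠ x ∈ {x : X | IsClosed ({x} : Set X)}, (c.residueDegree x : ℤ) * nZ g x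
      = ∑ᶠ x ∈ (fun z : ZZ g => piZ g z) '' ((phiZ g c) ⁻¹' {origin K}),
          (c.residueDegree x : ℤ) * nZ g x := by
        refine finsum_mem_inter_support_eq' _ _ _ ?_
        intro x hx
        constructor
        · intro hcl
          exact mem_image_of_support g c x hcl (Function.mem_support.mp hx)
        · rintro ⟨z, hz, rfl⟩
          exact piZ_isClosed g c hdim hg z hz
    _ = ∑ᶠ z ∈ (phiZ g c) ⁻¹' {origin K},
          (c.residueDegree (piZ g z) : ℤ) * nZ g (piZ g z) := finsum_mem_image hinj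
    _ = ∑ᶠ z ∈ (phiZ g c) ⁻¹' {origin K},
          Cyc.ordAt z (genericPoint (ZZ g)) (hsp z) (fZ g) *
            ((phiZ g c).residueDegree z : ℤ) := finsum_mem_congr rfl hpt
    _ = ∑ᶠ z : ↥((phiZ g c) ⁻¹' {origin K}),
          Cyc.ordAt z.1 (genericPoint (ZZ g)) (hsp z.1) (fZ g) *
            ((phiZ g c).residueDegree z.1 : ℤ) :=
        (finsum_set_coe_eq_finsum_mem (f := fun z => Cyc.ordAt z (genericPoint (ZZ g)) (hsp z)
          (fZ g) * ((phiZ g c).residueDegree z : ℤ)) _).symm

end Count

end Groth.Agent.Helper7.PDeg
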