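import Mathlib

set_option linter.style.haveILetI false
set_option linter.unusedVariables false
set_option linter.unusedSectionVars false
set_option autoImplicit false
set_option backward.isDefEq.respectTransparency.types false
set_option synthInstance.maxHeartbeats 400000
set_option maxHeartbeats 1600000

namespace Groth.Agent.Helper7.PDeg

universe u

/-! helper7: helper7: fields of fractions inside a common field: ranges, degree comparison, inversion of the generator, algebraic elements -/

section Rat

theorem exists_equiv_range {P B A M L : Type u} [CommRing P] [CommRing B] [Field A] [Field M]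
    [Field L] [Algebra P A] [IsFractionRing P A] [Algebra B M] [IsFractionRing B M]
    [Algebra A M] (θ : P →+* B)
    (hθ : ∀ a, algebraMap A M (algebraMap P A a) = algebraMap B M (θ a))
    (ε : B →+* L) (hε : @IsFractionRing B _ L _ ε.toAlgebra) :
    ∃ j : M ≃+* L, (∀ b, j (algebraMap B M b) = ε b) ∧
      Set.range (j.toRingHom.comp (algebraMap A M)) =
        {y | ∃ a b : P, y = ε (θ a) / ε (θ b)} := by
  letI := ε.toAlgebra
  let j0 : M ≃ₐ[B] L := IsLocalization.algEquiv (nonZeroDivisors B) M L
  have hj0 : ∀ b, j0 (algebraMap B M b) = ε b := fun b => j0.commutes b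
  have hcomp : ∀ a b : P, j0 (algebraMap A M (algebraMap P A a / algebraMap P A b)) =
      ε (θ a) / ε (θ b) := by
    intro a b
    rw [map_div₀, map_div₀, hθ, hθ, hj0, hj0]
  refine ⟨j0.toRingEquiv, hj0, ?_⟩
  ext y
  constructor
  · rintro ⟨α, rfl⟩
    obtain ⟨a, b, hb, rfl⟩ := IsFractionRing.div_surjective (A := P) α
    exact ⟨a, b, hcomp a b⟩
  · rintro ⟨a, b, rfl⟩
    exact ⟨algebraMap P A a / algebraMap P A b, hcomp a b⟩

theorem finrank_eq_of_range_eq {A M A' M' L : Type u} [Field A] [Field M] [Field A'] [Field M']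
    [Field L] [Algebra A M] [Algebra A' M'] (j : M ≃+* L) (j' : M' ≃+* L)
    (h : Set.range (j.toRingHom.comp (algebraMap A M)) =
      Set.range (j'.toRingHom.comp (algebraMap A' M'))) :
    Module.finrank A M = Module.finrank A' M' := by
  let τ : A →+* L := j.toRingHom.comp (algebraMap A M)
  let τ' : A' →+* L := j'.toRingHom.comp (algebraMap A' M')
  have hτ : Function.Injective τ := τ.injective
  have hτ' : Function.Injective τ' := τ'.injective
  have hex : ∀ a : A, ∃ a' : A', τ' a' = τ a := by
    intro a
    have h1 : τ a ∈ Set.range τ' := by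
      rw [← h]
      exact ⟨a, rfl⟩
    exact h1
  have hex' : ∀ a' : A', ∃ a : A, τ a = τ' a' := by
    intro a'
    have h1 : τ' a' ∈ Set.range τ := by
      rw [h]
      exact ⟨a', rfl⟩
    exact h1
  let f : A → A' := fun a => (hex a).choose
  let f' : A' → A := fun a' => (hex' a').choose
  have hf : ∀ a, τ' (f a) = τ a := fun a => (hex a).choose_spec
  have hf' : ∀ a', τ (f' a') = τ' a' := fun a' => (hex' a').choose_spec
  let i : A ≃+* A' :=
    { toFun := f
      invFun := f'
      left_inv := fun a => hτ (by rw [hf', hf])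
      right_inv := fun a' => hτ' (by rw [hf, hf'])
      map_mul' := fun a b => hτ' (by rw [hf, map_mul, map_mul, hf, hf])
      map_add' := fun a b => hτ' (by rw [hf, map_add, map_add, hf, hf]) }
  have hi : ∀ a, τ' (i a) = τ a := fun a => hf a
  refine Algebra.finrank_eq_of_equiv_equiv i (j.trans j'.symm) ?_
  ext a
  apply j'.injective
  show j' (algebraMap A' M' (i a)) = j' (j'.symm (j (algebraMap A M a)))
  rw [RingEquiv.apply_symm_apply]
  exact hi a

theorem ratRange_subset {F P L : Type u} [CommRing F] [CommRing P] [Field L]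
    (ρ : F →+* P) (t : P) (hgen : ∀ a : P, ∃ Q : Polynomial F, a = Polynomial.eval₂ ρ t Q)
    (κ : F →+* L) (g : L) (hg : g ≠ 0) (ev ev' : P →+* L)
    (h1 : ∀ r, ev (ρ r) = κ r) (h1' : ∀ r, ev' (ρ r) = κ r) (h2 : ev t = g)
    (h2' : ev' t = g⁻¹) :
    {y : L | ∃ a b : P, y = ev a / ev b} ⊆ {y : L | ∃ a b : P, y = ev' a / ev' b} := by
  rintro y ⟨a, b, rfl⟩
  obtain ⟨Qa, rfl⟩ := hgen a
  obtain ⟨Qb, rfl⟩ := hgen b
  letI := invertibleOfNonzero hg
  have hc : ev.comp ρ = κ := RingHom.ext h1
  have hc' : ev'.comp ρ = κ := RingHom.ext h1'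
  have hev : ∀ Q : Polynomial F, ev (Polynomial.eval₂ ρ t Q) = Polynomial.eval₂ κ g Q := by
    intro Q
    rw [Polynomial.hom_eval₂, hc, h2]
  have hev' : ∀ Q : Polynomial F,
      ev' (Polynomial.eval₂ ρ t Q) = Polynomial.eval₂ κ g⁻¹ Q := by
    intro Q
    rw [Polynomial.hom_eval₂, hc', h2']
  have e1 := Polynomial.eval₂_reflect_mul_pow κ g (max Qa.natDegree Qb.natDegree) Qa
    (le_max_left _ _)
  have e2 := Polynomial.eval₂_reflect_mul_pow κ g (max Qa.natDegree Qb.natDegree) Qb
    (le_max_right _ _)
  rw [invOf_eq_inv] at e1 e2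
  refine ⟨Polynomial.eval₂ ρ t (Polynomial.reflect (max Qa.natDegree Qb.natDegree) Qa),
    Polynomial.eval₂ ρ t (Polynomial.reflect (max Qa.natDegree Qb.natDegree) Qb), ?_⟩
  rw [hev, hev, hev', hev', ← e1, ← e2,
    mul_div_mul_right _ _ (pow_ne_zero (max Qa.natDegree Qb.natDegree) hg)]

theorem exists_inv_poly {F L : Type u} [CommRing F] [Field L] (hF : IsField F) (κ : F →+* L)
    (g : L) (hg : g ≠ 0) (P : Polynomial F) (hP : P ≠ 0)
    (h0 : Polynomial.eval₂ κ g P = 0) :
    ∃ Q : Polynomial F, 1 = g * Polynomial.eval₂ κ g Q := by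
  have aux : ∀ n : ℕ, ∀ P : Polynomial F, P.natDegree = n → P ≠ 0 →
      Polynomial.eval₂ κ g P = 0 → ∃ Q : Polynomial F, 1 = g * Polynomial.eval₂ κ g Q := by
    intro n
    induction n using Nat.strong_induction_on with
    | _ n ih =>
      intro P hn hP h0
      have h1 : Polynomial.eval₂ κ g P =
          Polynomial.eval₂ κ g P.divX * g + κ (P.coeff 0) := by
        conv_lhs => rw [← Polynomial.divX_mul_X_add P]
        rw [Polynomial.eval₂_add, Polynomial.eval₂_mul, Polynomial.eval₂_X, Polynomial.eval₂_C]
      rw [h0] at h1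
      by_cases hc : P.coeff 0 = 0
      · rw [hc, map_zero, add_zero] at h1
        have hev : Polynomial.eval₂ κ g P.divX = 0 :=
          (mul_eq_zero.mp h1.symm).resolve_right hg
        have hd0 : P.divX ≠ 0 := by
          intro h
          apply hP
          rw [← Polynomial.divX_mul_X_add P, h, hc, zero_mul, map_zero, add_zero]
        have hn0 : n ≠ 0 := by
          intro hn0
          rw [hn0] at hn
          have h3 := Polynomial.eq_C_of_natDegree_eq_zero hn
          rw [hc, map_zero] at h3
          exact hP h3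
        have hdeg : P.divX.natDegree < n := by
          rw [Polynomial.natDegree_divX_eq_natDegree_tsub_one, hn]
          omega
        exact ih _ hdeg P.divX rfl hd0 hev
      · obtain ⟨c', hc'⟩ := hF.mul_inv_cancel hc
        refine ⟨Polynomial.C (-c') * P.divX, ?_⟩
        rw [Polynomial.eval₂_mul, Polynomial.eval₂_C, map_neg]
        have h2 : κ (P.coeff 0) * κ c' = 1 := by rw [← map_mul, hc', map_one]
        rw [← h2]
        linear_combination (-(κ c')) * h1
  exact aux _ P rfl hP h0

end Rat

end Groth.Agent.Helper7.PDeg
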