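import Mathlib
import Groth.Prelude.Def_Cyc
import Groth.Agent.Lib.Helper7.PDeg.Count
import Groth.Agent.Lib.Helper7.PDeg.Rat

set_option linter.style.haveILetI false
set_option linter.unusedVariables false
set_option linter.unusedSectionVars false
set_option autoImplicit false
set_option backward.isDefEq.respectTransparency.types false
set_option synthInstance.maxHeartbeats 400000
set_option maxHeartbeats 1600000

namespace Groth.Agent.Helper7.PDeg

open CategoryTheory CategoryTheory.Limits AlgebraicGeometry TopologicalSpace Opposite IsLocalRing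
open AlgebraicGeometry.AffineSpace
open Groth.Agent.Helper7.DivFin Groth.Agent.Helper7.FinDeg Groth.Agent.Helper7.FinPush
open Groth.Agent.Helper7.KL

universe u

/-! helper7: helper7: the degree of the divisor of a rational function on a proper integral curve over a field is zero -/

attribute [local instance] algRB algBL tower_chart

section Main

variable {X : Scheme.{u}} [IsIntegral X] {K : Type u} [Field K]
  (c : X ⟶ Spec (CommRingCat.of K))

/-- the structure map from the base field to the function field -/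
noncomputable def kap : Γ(Spec (CommRingCat.of K), ⊤) →+* X.functionField :=
  (X.presheaf.germ ⊤ (genericPoint X) trivial).hom.comp c.appTop.hom

theorem kap_eq (W : X.Opens) [Nonempty W] (e : W ≤ c ⁻¹ᵁ ⊤)
    (r : Γ(Spec (CommRingCat.of K), ⊤)) :
    algebraMap Γ(X, W) X.functionField ((c.appLE ⊤ W e).hom r) = kap c r := by
  show (X.presheaf.germ W (genericPoint X) (genericPoint_mem W)).hom ((c.appLE ⊤ W e).hom r) = _
  rw [Scheme.Hom.appLE, CommRingCat.hom_comp, RingHom.comp_apply]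
  exact TopCat.Presheaf.germ_res_apply X.presheaf (homOfLE e) (genericPoint X) _ _

theorem algebraMap_stalk_comp (x : X) (r : Γ(Spec (CommRingCat.of K), ⊤)) :
    algebraMap (X.presheaf.stalk x) X.functionField
      ((X.presheaf.germ ⊤ x trivial).hom (c.appTop.hom r)) = kap c r :=
  TopCat.Presheaf.germ_stalkSpecializes_apply X.presheaf (U := ⊤) trivial
    ((genericPoint_spec X).specializes trivial) (c.appTop.hom r)

/-- a rational function is transcendental over the base field -/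
def Transc (g : X.functionField) : Prop :=
  ∀ P : Polynomial Γ(Spec (CommRingCat.of K), ⊤), Polynomial.eval₂ (kap c) g P = 0 → P = 0

theorem transc_inv (g : X.functionField) (hg : g ≠ 0) (hT : Transc c g) : Transc c g⁻¹ := by
  intro P hP
  letI := invertibleOfNonzero (inv_ne_zero hg)
  have h := (Polynomial.eval₂_reverse_eq_zero_iff (kap c) g⁻¹ P).mpr hP
  rw [invOf_eq_inv, inv_inv] at h
  exact Polynomial.reverse_eq_zero.mp (hT _ h)

theorem not_transc_inv (g : X.functionField) (hg : g ≠ 0) (hnT : ¬ Transc c g) :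
    ¬ Transc c g⁻¹ := by
  intro h
  apply hnT
  have h1 := transc_inv c g⁻¹ (inv_ne_zero hg) h
  rwa [inv_inv] at h1

/-- evaluation of the functions on the affine line at the rational function -/
noncomputable def evL (g : X.functionField) (W : X.Opens) [Nonempty W] :
    Γ(𝔸(PUnit.{u+1}; Spec (CommRingCat.of K)), ⊤) →+* X.functionField :=
  (epsZ g W).comp ((phiZ g c).appLE ⊤ (VZ g W) (fun _ _ => trivial)).hom

theorem evL_uK (g : X.functionField) (W : X.Opens) [Nonempty W] : evL c g W (uK K) = g := by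
  unfold evL
  rw [RingHom.comp_apply, phiZ_appLE_uK, epsZ_uOn]

theorem evL_rho (g : X.functionField) (W : X.Opens) [Nonempty W]
    (r : Γ(Spec (CommRingCat.of K), ⊤)) : evL c g W (rhoK K r) = kap c r := by
  unfold evL
  rw [RingHom.comp_apply]
  have e0 : (⊤ : (𝔸(PUnit.{u+1}; Spec (CommRingCat.of K))).Opens) ≤
      (𝔸(PUnit.{u+1}; Spec (CommRingCat.of K)) ↘ Spec (CommRingCat.of K)) ⁻¹ᵁ ⊤ :=
    fun _ _ => trivial
  have eV : VZ g W ≤ (phiZ g c) ⁻¹ᵁ ⊤ := fun _ _ => trivial
  have eV' : VZ g W ≤ (phiZ g c ≫ (𝔸(PUnit.{u+1}; Spec (CommRingCat.of K)) ↘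
      Spec (CommRingCat.of K))) ⁻¹ᵁ ⊤ := fun _ _ => trivial
  have eV'' : VZ g W ≤ (piZ g ≫ c) ⁻¹ᵁ ⊤ := fun _ _ => trivial
  have eW : W ≤ c ⁻¹ᵁ ⊤ := fun _ _ => trivial
  have h1 : ((phiZ g c).appLE ⊤ (VZ g W) eV).hom (rhoK K r) =
      ((piZ g).app W).hom ((c.appLE ⊤ W eW).hom r) := by
    have e1 : (𝔸(PUnit.{u+1}; Spec (CommRingCat.of K)) ↘ Spec (CommRingCat.of K)).appLE ⊤ ⊤ e0 ≫
        (phiZ g c).appLE ⊤ (VZ g W) eV =
        (phiZ g c ≫ (𝔸(PUnit.{u+1}; Spec (CommRingCat.of K)) ↘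
          Spec (CommRingCat.of K))).appLE ⊤ (VZ g W) eV' :=
      Scheme.Hom.appLE_comp_appLE _ _ _ _ _ _ _
    have e2 : (phiZ g c ≫ (𝔸(PUnit.{u+1}; Spec (CommRingCat.of K)) ↘
          Spec (CommRingCat.of K))).appLE ⊤ (VZ g W) eV' =
        (piZ g ≫ c).appLE ⊤ (VZ g W) eV'' :=
      appLE_congr_hom _ _ (phiZ_over g c) _ _ _ _
    have e3 : c.appLE ⊤ W eW ≫ (piZ g).appLE W (VZ g W) le_rfl =
        (piZ g ≫ c).appLE ⊤ (VZ g W) eV'' :=
      Scheme.Hom.appLE_comp_appLE _ _ _ _ _ _ _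
    have e4 : (piZ g).appLE W (VZ g W) le_rfl = (piZ g).app W := Scheme.Hom.appLE_eq_app _
    have e5 : (𝔸(PUnit.{u+1}; Spec (CommRingCat.of K)) ↘ Spec (CommRingCat.of K)).appLE ⊤ ⊤ e0 =
        (𝔸(PUnit.{u+1}; Spec (CommRingCat.of K)) ↘ Spec (CommRingCat.of K)).appTop :=
      appLE_top_top _ _
    calc ((phiZ g c).appLE ⊤ (VZ g W) eV).hom (rhoK K r)
        = ((𝔸(PUnit.{u+1}; Spec (CommRingCat.of K)) ↘ Spec (CommRingCat.of K)).appLE ⊤ ⊤ e0 ≫
            (phiZ g c).appLE ⊤ (VZ g W) eV).hom r := by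
          rw [e5]
          rfl
      _ = (c.appLE ⊤ W eW ≫ (piZ g).appLE W (VZ g W) le_rfl).hom r := by rw [e1, e2, ← e3]
      _ = ((piZ g).app W).hom ((c.appLE ⊤ W eW).hom r) := by
          rw [e4]
          rfl
  rw [h1, epsZ_piZ_app, kap_eq]

theorem evL_eval₂ (g : X.functionField) (W : X.Opens) [Nonempty W]
    (P : Polynomial Γ(Spec (CommRingCat.of K), ⊤)) :
    evL c g W (Polynomial.eval₂ (rhoK K) (uK K) P) = Polynomial.eval₂ (kap c) g P := by
  have hc : (evL c g W).comp (rhoK K) = kap c := RingHom.ext (evL_rho c g W)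
  rw [Polynomial.hom_eval₂, hc, evL_uK]

theorem evL_injective (g : X.functionField) (W : X.Opens) [Nonempty W] (hT : Transc c g) :
    Function.Injective (evL c g W) := by
  rw [injective_iff_map_eq_zero]
  intro a ha
  obtain ⟨P, rfl⟩ := gen_AK K a
  rw [evL_eval₂] at ha
  rw [hT P ha, Polynomial.eval₂_zero]

theorem hdom_of_transc (g : X.functionField) (hT : Transc c g) :
    phiZ g c (genericPoint (ZZ g)) =
      genericPoint 𝔸(PUnit.{u+1}; Spec (CommRingCat.of K)) := by
  obtain ⟨W, hW, hxW⟩ := exists_affine (genericPoint X)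
  haveI : Nonempty W := ⟨⟨_, hxW⟩⟩
  have hζV := genericPoint_mem_VZ g W
  have e : VZ g W ≤ (phiZ g c) ⁻¹ᵁ ⊤ := fun _ _ => trivial
  have h1 := IsAffineOpen.comap_primeIdealOf_appLE (f := phiZ g c) (x := genericPoint (ZZ g)) ⊤
    (isAffineOpen_top _) (VZ g W) (isAffineOpen_VZ g hW) e hζV
  have h5 : Ideal.comap ((phiZ g c).appLE ⊤ (VZ g W) e).hom
      ((isAffineOpen_VZ g hW).primeIdealOf ⟨genericPoint (ZZ g), hζV⟩).asIdeal =
      ((isAffineOpen_top 𝔸(PUnit.{u+1}; Spec (CommRingCat.of K))).primeIdealOf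
        ⟨phiZ g c (genericPoint (ZZ g)), trivial⟩).asIdeal :=
    congrArg PrimeSpectrum.asIdeal h1
  rw [primeIdealOf_eq_bot_of_generic (isAffineOpen_VZ g hW) (genericPoint (ZZ g)) rfl hζV] at h5
  have hinj : Function.Injective ((phiZ g c).appLE ⊤ (VZ g W) e).hom := by
    have h : Function.Injective (⇑(epsZ g W) ∘ ⇑((phiZ g c).appLE ⊤ (VZ g W) e).hom) :=
      evL_injective c g W hT
    exact Function.Injective.of_comp h
  rw [Ideal.comap_bot_of_injective _ hinj] at h5
  have h3 := primeIdealOf_eq_bot_of_generic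
    (isAffineOpen_top 𝔸(PUnit.{u+1}; Spec (CommRingCat.of K)))
    (genericPoint 𝔸(PUnit.{u+1}; Spec (CommRingCat.of K))) rfl trivial
  have h4 : (isAffineOpen_top 𝔸(PUnit.{u+1}; Spec (CommRingCat.of K))).primeIdealOf
      ⟨phiZ g c (genericPoint (ZZ g)), trivial⟩ =
      (isAffineOpen_top 𝔸(PUnit.{u+1}; Spec (CommRingCat.of K))).primeIdealOf
      ⟨genericPoint 𝔸(PUnit.{u+1}; Spec (CommRingCat.of K)), trivial⟩ :=
    PrimeSpectrum.ext (h5.symm.trans h3.symm)
  exact congrArg Subtype.val (primeIdealOf_injective _ h4)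

theorem isFractionRing_epsZ (g : X.functionField) {W : X.Opens} (hW : IsAffineOpen W)
    [Nonempty W] : IsFractionRing Γ(ZZ g, VZ g W) X.functionField := by
  haveI := functionField_isFractionRing_of_isAffineOpen X W hW
  haveI : FaithfulSMul Γ(ZZ g, VZ g W) X.functionField :=
    (faithfulSMul_iff_algebraMap_injective _ _).mpr (hBL_chart g hW)
  refine IsFractionRing.of_field (R := Γ(ZZ g, VZ g W)) (K := X.functionField) ?_
  intro z
  obtain ⟨r, s, hs, rfl⟩ := IsFractionRing.div_surjective (A := Γ(X, W)) z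
  refine ⟨algebraMap Γ(X, W) Γ(ZZ g, VZ g W) r, algebraMap Γ(X, W) Γ(ZZ g, VZ g W) s, ?_⟩
  rw [← IsScalarTower.algebraMap_apply, ← IsScalarTower.algebraMap_apply]

theorem sigma_data (g : X.functionField) {W : X.Opens} (hW : IsAffineOpen W) [Nonempty W]
    (hT : Transc c g) :
    letI := ((phiZ g c).residueFieldMap (genericPoint (ZZ g))).hom.toAlgebra
    ∃ j : (ZZ g).residueField (genericPoint (ZZ g)) ≃+* X.functionField,
      Set.range (j.toRingHom.comp (algebraMap
        ((𝔸(PUnit.{u+1}; Spec (CommRingCat.of K))).residueField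
          (phiZ g c (genericPoint (ZZ g))))
        ((ZZ g).residueField (genericPoint (ZZ g))))) =
        {y | ∃ a b : Γ(𝔸(PUnit.{u+1}; Spec (CommRingCat.of K)), ⊤),
          y = evL c g W a / evL c g W b} := by
  have hdom := hdom_of_transc c g hT
  have hζV := genericPoint_mem_VZ g W
  have e : VZ g W ≤ (phiZ g c) ⁻¹ᵁ ⊤ := fun _ _ => trivial
  letI algKL := ((phiZ g c).residueFieldMap (genericPoint (ZZ g))).hom.toAlgebra
  letI algPA : Algebra Γ(𝔸(PUnit.{u+1}; Spec (CommRingCat.of K)), ⊤)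
      ((𝔸(PUnit.{u+1}; Spec (CommRingCat.of K))).residueField
        (phiZ g c (genericPoint (ZZ g)))) :=
    (((𝔸(PUnit.{u+1}; Spec (CommRingCat.of K))).residue
      (phiZ g c (genericPoint (ZZ g)))).hom.comp
      ((𝔸(PUnit.{u+1}; Spec (CommRingCat.of K))).presheaf.germ ⊤
        (phiZ g c (genericPoint (ZZ g))) trivial).hom).toAlgebra
  letI algBM : Algebra Γ(ZZ g, VZ g W) ((ZZ g).residueField (genericPoint (ZZ g))) :=
    (((ZZ g).residue (genericPoint (ZZ g))).hom.comp
      ((ZZ g).presheaf.germ (VZ g W) (genericPoint (ZZ g)) hζV).hom).toAlgebra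
  haveI frPA : IsFractionRing Γ(𝔸(PUnit.{u+1}; Spec (CommRingCat.of K)), ⊤)
      ((𝔸(PUnit.{u+1}; Spec (CommRingCat.of K))).residueField
        (phiZ g c (genericPoint (ZZ g)))) :=
    isFractionRing_sections (isAffineOpen_top 𝔸(PUnit.{u+1}; Spec (CommRingCat.of K)))
      (phiZ g c (genericPoint (ZZ g))) hdom trivial
  haveI frBM : IsFractionRing Γ(ZZ g, VZ g W) ((ZZ g).residueField (genericPoint (ZZ g))) :=
    isFractionRing_sections (isAffineOpen_VZ g hW) (genericPoint (ZZ g)) rfl hζV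
  have hθ : ∀ a : Γ(𝔸(PUnit.{u+1}; Spec (CommRingCat.of K)), ⊤),
      algebraMap ((𝔸(PUnit.{u+1}; Spec (CommRingCat.of K))).residueField
          (phiZ g c (genericPoint (ZZ g)))) ((ZZ g).residueField (genericPoint (ZZ g)))
        (algebraMap Γ(𝔸(PUnit.{u+1}; Spec (CommRingCat.of K)), ⊤)
          ((𝔸(PUnit.{u+1}; Spec (CommRingCat.of K))).residueField
            (phiZ g c (genericPoint (ZZ g)))) a) =
      algebraMap Γ(ZZ g, VZ g W) ((ZZ g).residueField (genericPoint (ZZ g)))
        (((phiZ g c).appLE ⊤ (VZ g W) e).hom a) := by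
    intro a
    show ((phiZ g c).residueFieldMap (genericPoint (ZZ g))).hom
        (((𝔸(PUnit.{u+1}; Spec (CommRingCat.of K))).residue
          (phiZ g c (genericPoint (ZZ g)))).hom
          (((𝔸(PUnit.{u+1}; Spec (CommRingCat.of K))).presheaf.germ ⊤
            (phiZ g c (genericPoint (ZZ g))) trivial).hom a)) =
      ((ZZ g).residue (genericPoint (ZZ g))).hom
        (((ZZ g).presheaf.germ (VZ g W) (genericPoint (ZZ g)) hζV).hom
          (((phiZ g c).appLE ⊤ (VZ g W) e).hom a))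
    rw [germ_appLE (phiZ g c) e (genericPoint (ZZ g)) hζV a]
    have h2 := DFunLike.congr_fun (CommRingCat.hom_ext_iff.mp
      (Scheme.residue_residueFieldMap (phiZ g c) (genericPoint (ZZ g))))
      (((𝔸(PUnit.{u+1}; Spec (CommRingCat.of K))).presheaf.germ ⊤
        (phiZ g c (genericPoint (ZZ g))) trivial).hom a)
    simp only [CommRingCat.hom_comp, RingHom.comp_apply] at h2
    exact h2
  have hε : @IsFractionRing Γ(ZZ g, VZ g W) _ X.functionField _ (epsZ g W).toAlgebra :=
    isFractionRing_epsZ g hW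
  obtain ⟨j, hj, hr⟩ := exists_equiv_range ((phiZ g c).appLE ⊤ (VZ g W) e).hom hθ
    (epsZ g W) hε
  exact ⟨j, hr⟩

theorem degree_symm (g : X.functionField) (hg : g ≠ 0) (hT : Transc c g) :
    (phiZ g c).residueDegree (genericPoint (ZZ g)) =
      (phiZ g⁻¹ c).residueDegree (genericPoint (ZZ g⁻¹)) := by
  obtain ⟨W, hW, hxW⟩ := exists_affine (genericPoint X)
  haveI : Nonempty W := ⟨⟨_, hxW⟩⟩
  have hT' := transc_inv c g hg hT
  letI a1 := ((phiZ g c).residueFieldMap (genericPoint (ZZ g))).hom.toAlgebra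
  letI a2 := ((phiZ g⁻¹ c).residueFieldMap (genericPoint (ZZ g⁻¹))).hom.toAlgebra
  obtain ⟨j, hj⟩ := sigma_data c g hW hT
  obtain ⟨j', hj'⟩ := sigma_data c g⁻¹ hW hT'
  have hsub1 := ratRange_subset (rhoK K) (uK K) (gen_AK K) (kap c) g hg (evL c g W)
    (evL c g⁻¹ W) (evL_rho c g W) (evL_rho c g⁻¹ W) (evL_uK c g W) (evL_uK c g⁻¹ W)
  have hsub2 := ratRange_subset (rhoK K) (uK K) (gen_AK K) (kap c) g⁻¹ (inv_ne_zero hg)
    (evL c g⁻¹ W) (evL c g W) (evL_rho c g⁻¹ W) (evL_rho c g W) (evL_uK c g⁻¹ W)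
    (by rw [inv_inv]; exact evL_uK c g W)
  unfold Scheme.Hom.residueDegree
  exact finrank_eq_of_range_eq j j' (by rw [hj, hj']; exact Set.Subset.antisymm hsub1 hsub2)

theorem I0_eq_top_of_not_transc (g : X.functionField) (hg : g ≠ 0) (hnT : ¬ Transc c g)
    (x : X) : I0 (X.presheaf.stalk x) g = ⊤ := by
  unfold Transc at hnT
  obtain ⟨P, hP⟩ := not_forall.mp hnT
  obtain ⟨hP0, hPne⟩ := Classical.not_imp.mp hP
  obtain ⟨Q, hQ⟩ := exists_inv_poly (isField_ΓSK K) (kap c) g hg P hPne hP0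
  rw [Ideal.eq_top_iff_one, mem_I0]
  refine ⟨Q.map ((X.presheaf.germ ⊤ x trivial).hom.comp c.appTop.hom), ?_⟩
  have hc : (algebraMap (X.presheaf.stalk x) X.functionField).comp
      ((X.presheaf.germ ⊤ x trivial).hom.comp c.appTop.hom) = kap c :=
    RingHom.ext (algebraMap_stalk_comp c x)
  rw [map_one, Polynomial.aeval_def, Polynomial.eval₂_map, hc]
  exact hQ

theorem finsum_mem_sub_distrib'' {α : Type*} (s : Set α) (A B : α → ℤ)
    (hA : (s ∩ Function.support A).Finite) (hB : (s ∩ Function.support B).Finite) :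
    ∑ᶠ x ∈ s, (A x - B x) = ∑ᶠ x ∈ s, A x - ∑ᶠ x ∈ s, B x := by
  have hB' : (s ∩ Function.support (fun x => -B x)).Finite := by
    have h : Function.support (fun x => -B x) = Function.support B := by
      ext x
      simp [Function.mem_support]
    rw [h]
    exact hB
  have h1 : ∑ᶠ x ∈ s, (A x + -B x) = ∑ᶠ x ∈ s, A x + ∑ᶠ x ∈ s, -B x :=
    finsum_mem_add_distrib' hA hB'
  have h2 : ∑ᶠ x ∈ s, -B x = -∑ᶠ x ∈ s, B x := by
    rw [finsum_mem_def, finsum_mem_def, ← finsum_neg_distrib]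
    congr 1
    ext x
    by_cases hx : x ∈ s <;> simp [hx]
  simp only [sub_eq_add_neg]
  rw [h1, h2]

/-- the degree of the divisor of a rational function on a proper curve is zero -/
theorem main [IsProper c] (hdim : topologicalKrullDim X = 1) (f : X.functionField)
    (hf : f ≠ 0) :
    ∑ᶠ (x : X) (_ : IsClosed ({x} : Set X)), (c.residueDegree x : ℤ) *
      CycAlg.ordFrac (X.presheaf.stalk x) X.functionField f = 0 := by
  have hdim' : topologicalKrullDim X ≤ 1 := hdim.le
  haveI : IsLocallyNoetherian X := LocallyOfFiniteType.isLocallyNoetherian c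
  have hord : ∀ x : X, CycAlg.ordFrac (X.presheaf.stalk x) X.functionField f =
      nZ f x - nZ f⁻¹ x := by
    intro x
    haveI := krullDimLE_stalk hdim' x
    exact ordFrac_eq_sub f hf
  by_cases hT : Transc c f
  · have hT' := transc_inv c f hf hT
    have h1 := count f c hdim' hf (hdom_of_transc c f hT)
    have h2 := count f⁻¹ c hdim' (inv_ne_zero hf) (hdom_of_transc c f⁻¹ hT')
    have h3 := degree_symm c f hf hT
    have hfin1 := count_finite f c hdim' hf
    have hfin2 := count_finite f⁻¹ c hdim' (inv_ne_zero hf)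
    have hterm : ∀ x : X, (c.residueDegree x : ℤ) *
        CycAlg.ordFrac (X.presheaf.stalk x) X.functionField f =
        (c.residueDegree x : ℤ) * nZ f x - (c.residueDegree x : ℤ) * nZ f⁻¹ x := by
      intro x
      rw [hord x, mul_sub]
    show ∑ᶠ x ∈ {x : X | IsClosed ({x} : Set X)}, (c.residueDegree x : ℤ) *
      CycAlg.ordFrac (X.presheaf.stalk x) X.functionField f = 0
    rw [finsum_mem_congr rfl (fun x _ => hterm x),
      finsum_mem_sub_distrib'' _ _ _ hfin1 hfin2, h1, h2, h3, sub_self]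
  · have h0 : ∀ x : X, (c.residueDegree x : ℤ) *
        CycAlg.ordFrac (X.presheaf.stalk x) X.functionField f = 0 := by
      intro x
      rw [hord x, nZ_eq_zero_of_top f x (I0_eq_top_of_not_transc c f hf hT x),
        nZ_eq_zero_of_top f⁻¹ x (I0_eq_top_of_not_transc c f⁻¹ (inv_ne_zero hf)
          (not_transc_inv c f hf hT) x), sub_self, mul_zero]
    simp only [h0, finsum_zero]

end Main

end Groth.Agent.Helper7.PDeg
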