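import Mathlib
import Groth.Prelude.Def_Cyc
import Groth.Agent.Lib.Helper7.PDeg.Main

set_option linter.style.haveILetI false
set_option linter.unusedVariables false
set_option linter.unusedSectionVars false
set_option autoImplicit false
set_option backward.isDefEq.respectTransparency.types false
set_option synthInstance.maxHeartbeats 400000
set_option maxHeartbeats 1600000

namespace Groth.Agent.Helper7.PDeg

open CategoryTheory CategoryTheory.Limits AlgebraicGeometry TopologicalSpace Opposite IsLocalRing
open AlgebraicGeometry.AffineSpace
open Groth.Agent.Helper7.DivFin Groth.Agent.Helper7.FinDeg Groth.Agent.Helper7.FinPush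
open Groth.Agent.Helper7.KL

universe u

/-! helper7: helper7: degree zero of principal divisors on proper integral schemes of dimension at most one over a field -/

section MainLe

variable {X : Scheme.{u}} [IsIntegral X] {K : Type u} [Field K]
  (c : X ⟶ Spec (CommRingCat.of K))

/-- the degree of the divisor of a rational function on a proper integral scheme of dimension at
most one over a field is zero -/
theorem main_le [IsProper c] (hdim' : topologicalKrullDim X ≤ 1) (f : X.functionField)
    (hf : f ≠ 0) :
    ∑ᶠ (x : X) (_ : IsClosed ({x} : Set X)), (c.residueDegree x : ℤ) *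
      CycAlg.ordFrac (X.presheaf.stalk x) X.functionField f = 0 := by
  haveI : IsLocallyNoetherian X := LocallyOfFiniteType.isLocallyNoetherian c
  have hord : ∀ x : X, CycAlg.ordFrac (X.presheaf.stalk x) X.functionField f =
      nZ f x - nZ f⁻¹ x := by
    intro x
    haveI := krullDimLE_stalk hdim' x
    exact ordFrac_eq_sub f hf
  by_cases hT : Transc c f
  · have hT' := transc_inv c f hf hT
    have h1 := count f c hdim' hf (hdom_of_transc c f hT)
    have h2 := count f⁻¹ c hdim' (inv_ne_zero hf) (hdom_of_transc c f⁻¹ hT')
    have h3 := degree_symm c f hf hT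
    have hfin1 := count_finite f c hdim' hf
    have hfin2 := count_finite f⁻¹ c hdim' (inv_ne_zero hf)
    have hterm : ∀ x : X, (c.residueDegree x : ℤ) *
        CycAlg.ordFrac (X.presheaf.stalk x) X.functionField f =
        (c.residueDegree x : ℤ) * nZ f x - (c.residueDegree x : ℤ) * nZ f⁻¹ x := by
      intro x
      rw [hord x, mul_sub]
    show ∑ᶠ x ∈ {x : X | IsClosed ({x} : Set X)}, (c.residueDegree x : ℤ) *
      CycAlg.ordFrac (X.presheaf.stalk x) X.functionField f = 0
    rw [finsum_mem_congr rfl (fun x _ => hterm x),
      finsum_mem_sub_distrib'' _ _ _ hfin1 hfin2, h1, h2, h3, sub_self]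
  · have h0 : ∀ x : X, (c.residueDegree x : ℤ) *
        CycAlg.ordFrac (X.presheaf.stalk x) X.functionField f = 0 := by
      intro x
      rw [hord x, nZ_eq_zero_of_top f x (I0_eq_top_of_not_transc c f hf hT x),
        nZ_eq_zero_of_top f⁻¹ x (I0_eq_top_of_not_transc c f⁻¹ (inv_ne_zero hf)
          (not_transc_inv c f hf hT) x), sub_self, mul_zero]
    simp only [h0, finsum_zero]

end MainLe

end Groth.Agent.Helper7.PDeg
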